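/-
The standard unipotent subgroups of an untwisted Chevalley group under automorphisms.
-/
import Cfsg.Agent.Lib.ChevCore.BorelMore
import Cfsg.Agent.Lib.ChevCore.RankOneHom
import Cfsg.Agent.Lib.ChevCore.SepAll
import Mathlib.GroupTheory.Sylow
import Mathlib.GroupTheory.Nilpotent
import Mathlib.FieldTheory.Finite.Basic

set_option autoImplicit false

namespace Cfsg.Agent.ChevAut

open Cfsg.Lie Cfsg.Agent.ChevCore

/-- the seven data -/
abbrev Seven (D : ChevalleyDatum) : Prop := D ∈ [chevG2, chevB2, chevD4, chevF4, chevE6, chevE7, chevE8]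

variable (D : ChevalleyDatum) (F : Type*) [Field F]

/-- positive unipotent subgroup inside the group -/
noncomputable def gU : Subgroup ↥(D.group F) := (D.posUnipotent F).subgroupOf (D.group F)

/-- negative unipotent subgroup inside the group -/
noncomputable def gV : Subgroup ↥(D.group F) := (D.negUnipotent F).subgroupOf (D.group F)

/-- diagonal subgroup inside the group -/
noncomputable def gH : Subgroup ↥(D.group F) := (D.diagonalSubgroup F).subgroupOf (D.group F)

/-- Borel subgroup inside the group -/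
noncomputable def gB : Subgroup ↥(D.group F) := (D.borelSubgroup F).subgroupOf (D.group F)

variable {D F}
variable (hD : Seven D)

include hD

theorem hgood : Good D := good_of_mem hD

theorem xg_pos_mem {r : ℕ} (hr : r < D.nroots) (hp : 1 ≤ ht D r) (t : F) :
    xg D F r t ∈ D.posUnipotent F := by
  rw [(good_of_mem hD).posUnipotent_eq]; exact xg_mem_XS hr hp t

theorem xg_neg_mem {r : ℕ} (hr : r < D.nroots) (hp : ht D r ≤ -1) (t : F) :
    xg D F r t ∈ D.negUnipotent F := by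
  rw [(good_of_mem hD).negUnipotent_eq]; exact xg_mem_XS hr hp t

theorem xg_negsimple_mem {i : ℕ} (hi : i < D.rank) (t : F) :
    xg D F (D.neg (D.simple i)) t ∈ D.negUnipotent F := by
  have hG := good_of_mem hD
  refine xg_neg_mem hD (hG.neg_lt (hG.simple_lt hi)) ?_ t
  rw [hG.ht_neg (hG.simple_lt hi), hG.ht_simple hi]

theorem xg_simple_mem {i : ℕ} (hi : i < D.rank) (t : F) :
    xg D F (D.simple i) t ∈ D.posUnipotent F :=
  xg_pos_mem hD ((good_of_mem hD).simple_lt hi) (le_of_eq ((good_of_mem hD).ht_simple hi).symm) t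

theorem eq_one_of_borel_neg {g : GL D.Idx F} (hb : g ∈ D.borelSubgroup F)
    (hv : g ∈ D.negUnipotent F) : g = 1 := by
  have h : g ∈ D.borelSubgroup F ⊓ D.negUnipotent F := ⟨hb, hv⟩
  rwa [(good_of_mem hD).borel_inf_neg, Subgroup.mem_bot] at h

theorem eq_one_of_pos_neg {g : GL D.Idx F} (hb : g ∈ D.posUnipotent F)
    (hv : g ∈ D.negUnipotent F) : g = 1 :=
  eq_one_of_borel_neg hD (Subgroup.mem_sup_left hb) hv

theorem xg_ne_one {r : ℕ} (hr : r < D.nroots) {t : F} (ht : t ≠ 0) : xg D F r t ≠ 1 := fun h =>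
  ht ((good_of_mem hD).xg_injective hr (h.trans ((good_of_mem hD).xg_zero r).symm))

/-- the Borel subgroup normalises `U` -/
theorem conj_pos_of_borel {b u : GL D.Idx F} (hb : b ∈ D.borelSubgroup F)
    (hu : u ∈ D.posUnipotent F) : b * u * b⁻¹ ∈ D.posUnipotent F := by
  have hG := good_of_mem hD
  obtain ⟨v, hv, h, hh, rfl⟩ := hG.mem_borel hb
  have hN : D.diagonalSubgroup F ≤ Subgroup.normalizer (D.posUnipotent F : Set (GL D.Idx F)) := by
    rw [hG.posUnipotent_eq]; exact hG.H_le_normalizer_XS _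
  have h1 := (Subgroup.mem_normalizer_iff.1 (hN hh) u).1 hu
  simpa [mul_assoc] using mul_mem (mul_mem hv h1) (inv_mem hv)

/-- the diagonal subgroup normalises `V` -/
theorem conj_neg_of_diag {h u : GL D.Idx F} (hh : h ∈ D.diagonalSubgroup F)
    (hu : u ∈ D.negUnipotent F) : h * u * h⁻¹ ∈ D.negUnipotent F := by
  have hG := good_of_mem hD
  have hN : D.diagonalSubgroup F ≤ Subgroup.normalizer (D.negUnipotent F : Set (GL D.Idx F)) := by
    rw [hG.negUnipotent_eq]; exact hG.H_le_normalizer_XS _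
  exact (Subgroup.mem_normalizer_iff.1 (hN hh) u).1 hu

/-- a nonempty reduced word moves a positive root to the negative of a fundamental one -/
theorem exists_red_neg {i : ℕ} {u : List ℕ} (hw : ∀ k ∈ i :: u, k < D.rank) (hred : RedW D (i :: u)) :
    ∃ γ < D.nroots, 1 ≤ ht D γ ∧ actW D (i :: u) γ = D.neg (D.simple i) := by
  have hG := good_of_mem hD
  have hi := hw i (by simp)
  have hu : ∀ k ∈ u, k < D.rank := fun k hk => hw k (by simp [hk])
  have hur : ∀ k ∈ u.reverse, k < D.rank := fun k hk => hu k (List.mem_reverse.1 hk)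
  refine ⟨actW D u.reverse (D.simple i), hG.actW_lt hur (hG.simple_lt hi), hred.1, ?_⟩
  rw [actW_cons, hG.actW_reverse hu (hG.simple_lt hi), hG.refl_simple hi]

/-- `N(U) = B` -/
theorem mem_borel_of_normal {g : GL D.Idx F} (hg : g ∈ D.group F)
    (hn : ∀ u ∈ D.posUnipotent F, g * u * g⁻¹ ∈ D.posUnipotent F) : g ∈ D.borelSubgroup F := by
  have hG := good_of_mem hD
  obtain ⟨b, hb, w, hw, hred, b', hb', rfl⟩ := exists_bruhat_mem hD hg
  cases w with
  | nil => simpa [nw] using mul_mem hb hb'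
  | cons i u =>
    exfalso
    obtain ⟨γ, hγ, hpos, hact⟩ := exists_red_neg hD hw hred
    have hnw : nw D F (i :: u) * xg D F γ 1 * (nw D F (i :: u))⁻¹ ∈ D.posUnipotent F := by
      have h1 := conj_pos_of_borel hD (inv_mem hb') (xg_pos_mem hD hγ hpos (1 : F))
      have h2 := conj_pos_of_borel hD (inv_mem hb) (hn _ h1)
      simpa [mul_assoc] using h2
    rw [hG.nw_conj_x hw hγ, hact, mul_one] at hnw
    have := eq_one_of_pos_neg hD hnw (xg_negsimple_mem hD (hw i (by simp)) _)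
    refine xg_ne_one hD (hG.neg_lt (hG.simple_lt (hw i (by simp)))) ?_ this
    intro h0
    have := congrArg (fun z : ℤ => (z : F)) (Good.etaWord_sq (D := D) (i :: u) γ)
    simp [h0] at this

theorem mem_gB_of_normal {g : ↥(D.group F)} (hn : ∀ u ∈ gU D F, g * u * g⁻¹ ∈ gU D F) :
    g ∈ gB D F :=
  mem_borel_of_normal hD g.2 fun u hu =>
    hn ⟨u, (good_of_mem hD).posUnipotent_le_group hu⟩ hu

theorem gU_normal {g u : ↥(D.group F)} (hg : g ∈ gB D F) (hu : u ∈ gU D F) :
    g * u * g⁻¹ ∈ gU D F := conj_pos_of_borel hD hg hu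

theorem gU_normal_iff {g : ↥(D.group F)} (hg : g ∈ gB D F) (u : ↥(D.group F)) :
    g * u * g⁻¹ ∈ gU D F ↔ u ∈ gU D F :=
  ⟨fun h => by simpa [mul_assoc] using gU_normal hD (inv_mem hg) h, gU_normal hD hg⟩

section finite

variable [Fintype F] (p f : ℕ) [Fact p.Prime] (hF : Fintype.card F = p ^ f)

theorem nat_card_gU : Nat.card (gU D F) = Fintype.card F ^ (D.nroots / 2) := by
  have hG := good_of_mem hD
  rw [gU, Nat.card_congr (Subgroup.subgroupOfEquivOfLe hG.posUnipotent_le_group).toEquiv,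
    (uGood_of_mem hD).card_posUnipotent]

include hF

theorem isPGroup_gU : IsPGroup p (gU D F) := by
  refine IsPGroup.of_card (n := f * (D.nroots / 2)) ?_
  rw [nat_card_gU hD, hF, pow_mul]

theorem diag_eq_one_of_pow {h : GL D.Idx F} (hh : h ∈ D.diagonalSubgroup F) {k : ℕ}
    (hk : h ^ p ^ k = 1) : h = 1 := by
  have hG := good_of_mem hD
  rw [hG.diagonalSubgroup_eq_range] at hh
  obtain ⟨c, rfl⟩ := hh
  have h1 : tau D F c ^ (Fintype.card F - 1) = 1 := by
    classical
    rw [← map_pow, show c ^ (Fintype.card F - 1) = 1 from funext fun i => by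
      rw [Pi.pow_apply, ← Fintype.card_units, pow_card_eq_one, Pi.one_apply], map_one]
  have hf : 1 ≤ f := by
    rcases Nat.eq_zero_or_pos f with rfl | h'
    · have := Fintype.one_lt_card (α := F)
      simp [hF] at this
    · exact h'
  have hcop : (p ^ k).Coprime (Fintype.card F - 1) := by
    refine Nat.Coprime.pow_left _ ?_
    rw [Nat.Prime.coprime_iff_not_dvd Fact.out, hF]
    intro hd
    have hpd : p ∣ p ^ f := dvd_pow_self p (by omega)
    have : p ∣ 1 := by
      have h2 := Nat.dvd_sub hpd hd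
      have hpf : 1 ≤ p ^ f := Nat.one_le_pow _ _ (Fact.out : p.Prime).pos
      rwa [show p ^ f - (p ^ f - 1) = 1 by omega] at h2
    exact (Fact.out : p.Prime).not_dvd_one this
  have := pow_gcd_eq_one.2 ⟨hk, h1⟩
  rwa [hcop.gcd_eq_one, pow_one] at this

/-- `U` is a Sylow subgroup -/
theorem exists_sylow : ∃ P : Sylow p ↥(D.group F), (P : Subgroup ↥(D.group F)) = gU D F := by
  have hG := good_of_mem hD
  obtain ⟨P, hle⟩ := (isPGroup_gU hD p f hF).exists_le_sylow
  refine ⟨P, ?_⟩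
  by_contra hne
  haveI : Group.IsNilpotent ↥(P : Subgroup ↥(D.group F)) := P.isPGroup'.isNilpotent
  have hlt : (gU D F).subgroupOf (P : Subgroup ↥(D.group F)) < ⊤ := by
    rw [lt_top_iff_ne_top, Ne, Subgroup.subgroupOf_eq_top]
    exact fun h => hne (le_antisymm h hle)
  obtain ⟨x, hxn, hxU⟩ := SetLike.exists_of_lt (Group.normalizerCondition_of_isNilpotent _ hlt)
  have hxB : (x : ↥(D.group F)) ∈ gB D F := mem_gB_of_normal hD fun u hu =>
    (Subgroup.mem_normalizer_iff.1 hxn ⟨u, hle hu⟩).1 hu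
  obtain ⟨u, hu, h, hh, e⟩ := hG.mem_borel hxB
  have huU : (⟨u, hG.posUnipotent_le_group hu⟩ : ↥(D.group F)) ∈ gU D F := hu
  have hhP : (⟨h, hG.diagonalSubgroup_le_group hh⟩ : ↥(D.group F)) ∈
      (P : Subgroup ↥(D.group F)) := by
    have := mul_mem (inv_mem (hle huU)) x.2
    convert this using 1
    apply Subtype.ext
    show h = u⁻¹ * ((x : ↥(D.group F)) : GL D.Idx F)
    have e' : u * h = ((x : ↥(D.group F)) : GL D.Idx F) := e
    rw [← e']; group
  obtain ⟨k, hk⟩ := P.isPGroup' ⟨_, hhP⟩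
  have h1 : h = 1 := diag_eq_one_of_pow hD p f hF hh
    (congrArg (fun z : ↥(P : Subgroup ↥(D.group F)) => ((z : ↥(D.group F)) : GL D.Idx F)) hk)
  apply hxU
  show (((x : ↥(D.group F))) : GL D.Idx F) ∈ D.posUnipotent F
  have e' : u * h = ((x : ↥(D.group F)) : GL D.Idx F) := e
  rw [← e', h1, mul_one]; exact hu

omit hF in
theorem actW_pos_iff {w : List ℕ} (hw : ∀ i ∈ w, i < D.rank)
    (h : ∀ r < D.nroots, 1 ≤ ht D r → ht D (actW D w r) ≤ -1) {r : ℕ} (hr : r < D.nroots)
    (hn : ht D r ≤ -1) : 1 ≤ ht D (actW D w r) := by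
  have hG := good_of_mem hD
  have h1 := h (D.neg r) (hG.neg_lt hr) (by rw [hG.ht_neg hr]; omega)
  rw [hG.actW_neg hw hr, hG.ht_neg (hG.actW_lt hw hr)] at h1
  omega

omit hF in
theorem conj_flip {w : List ℕ} (hw : ∀ i ∈ w, i < D.rank)
    (h : ∀ r < D.nroots, 1 ≤ ht D r → ht D (actW D w r) ≤ -1) {u : GL D.Idx F}
    (hu : u ∈ D.posUnipotent F) : nw D F w * u * (nw D F w)⁻¹ ∈ D.negUnipotent F := by
  have hG := good_of_mem hD
  have hle : D.posUnipotent F ≤ (D.negUnipotent F).comap (MulAut.conj (nw D F w) : GL D.Idx F ≃* GL D.Idx F).toMonoidHom := by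
    rw [hG.posUnipotent_eq]
    refine XS_le fun r t hr hp => ?_
    show nw D F w * xg D F r t * (nw D F w)⁻¹ ∈ D.negUnipotent F
    rw [hG.nw_conj_x hw hr]
    exact xg_neg_mem hD (hG.actW_lt hw hr) (h r hr hp) _
  exact hle hu

omit hF in
theorem conj_flip' {w : List ℕ} (hw : ∀ i ∈ w, i < D.rank)
    (h : ∀ r < D.nroots, 1 ≤ ht D r → ht D (actW D w r) ≤ -1) {u : GL D.Idx F}
    (hu : u ∈ D.negUnipotent F) : nw D F w * u * (nw D F w)⁻¹ ∈ D.posUnipotent F := by
  have hG := good_of_mem hD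
  have hle : D.negUnipotent F ≤ (D.posUnipotent F).comap (MulAut.conj (nw D F w) : GL D.Idx F ≃* GL D.Idx F).toMonoidHom := by
    rw [hG.negUnipotent_eq]
    refine XS_le fun r t hr hp => ?_
    show nw D F w * xg D F r t * (nw D F w)⁻¹ ∈ D.posUnipotent F
    rw [hG.nw_conj_x hw hr]
    exact xg_pos_mem hD (hG.actW_lt hw hr) (actW_pos_iff hD hw h hr hp) _
  exact hle hu

omit hF in
theorem nat_card_gV : Nat.card (gV D F) = Nat.card (gU D F) := by
  have hG := good_of_mem hD
  obtain ⟨w, hw, h⟩ := exists_longest hD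
  rw [gV, gU, Nat.card_congr (Subgroup.subgroupOfEquivOfLe hG.negUnipotent_le_group).toEquiv,
    Nat.card_congr (Subgroup.subgroupOfEquivOfLe hG.posUnipotent_le_group).toEquiv]
  refine le_antisymm ?_ ?_
  · exact Nat.card_le_card_of_injective (fun v => (⟨_, conj_flip' hD hw h v.2⟩ : ↥(D.posUnipotent F)))
      fun a b e => Subtype.ext (MulAut.conj (nw D F w) |>.injective (congrArg Subtype.val e))
  · exact Nat.card_le_card_of_injective (fun v => (⟨_, conj_flip hD hw h v.2⟩ : ↥(D.negUnipotent F)))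
      fun a b e => Subtype.ext (MulAut.conj (nw D F w) |>.injective (congrArg Subtype.val e))

/-- every automorphism can be corrected to preserve `U` and `V` -/
theorem exists_normalise (φ : MulAut ↥(D.group F)) : ∃ g : ↥(D.group F),
    (gU D F).map (φ.trans (MulAut.conj g)).toMonoidHom = gU D F ∧
    (gV D F).map (φ.trans (MulAut.conj g)).toMonoidHom = gV D F := by
  classical
  have hG := good_of_mem hD
  haveI : Finite ↥(D.group F) := inferInstance
  obtain ⟨P, hP⟩ := exists_sylow hD p f hF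
  have hcardmap : ∀ (ψ : MulAut ↥(D.group F)) (K : Subgroup ↥(D.group F)),
      Nat.card (K.map ψ.toMonoidHom) = Nat.card K := fun ψ K =>
    Nat.card_congr (K.equivMapOfInjective ψ.toMonoidHom ψ.injective).toEquiv.symm
  have hconj : ∀ K : Subgroup ↥(D.group F), Nat.card K = Nat.card (gU D F) →
      ∃ g : ↥(D.group F), K.map (MulAut.conj g).toMonoidHom = gU D F := by
    intro K hK
    have hKP : Nat.card K = p ^ (Nat.card ↥(D.group F)).factorization p := by
      rw [hK, ← hP, P.card_eq_multiplicity]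
    obtain ⟨g, hg⟩ := MulAction.exists_smul_eq ↥(D.group F) (Sylow.ofCard K hKP) P
    refine ⟨g, ?_⟩
    rw [← hP, ← hg]
    rfl
  obtain ⟨g₁, hg₁⟩ := hconj _ (hcardmap φ (gU D F))
  set ψ := φ.trans (MulAut.conj g₁) with hψ
  have hψU : (gU D F).map ψ.toMonoidHom = gU D F := by
    conv_rhs => rw [← hg₁, Subgroup.map_map]
    rfl
  obtain ⟨g₂, hg₂⟩ := hconj ((gV D F).map ψ.toMonoidHom) (by rw [hcardmap, nat_card_gV hD])
  have hmem : ∀ x, x ∈ (gV D F).map ψ.toMonoidHom ↔ g₂ * x * g₂⁻¹ ∈ gU D F := by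
    intro x
    rw [← hg₂]
    exact (Subgroup.mem_map_iff_mem (MulAut.conj g₂).injective).symm
  have htriv : ∀ x, x ∈ gU D F → x ∈ (gV D F).map ψ.toMonoidHom → x = 1 := by
    intro x hx hxv
    obtain ⟨v, hv, rfl⟩ := hxv
    rw [← hψU] at hx
    have hvU : v ∈ gU D F := (Subgroup.mem_map_iff_mem ψ.injective).1 hx
    have : v = 1 := Subtype.ext (eq_one_of_pos_neg hD hvU hv)
    simp [this]
  obtain ⟨b, hb, w, hw, -, b', hb', e⟩ := exists_bruhat_mem hD (g₂⁻¹).2
  obtain ⟨u, hu, h, hh, rfl⟩ := hG.mem_borel hb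
  have hneg : ∀ r < D.nroots, 1 ≤ ht D r → ht D (actW D w r) ≤ -1 := by
    intro r hr hp
    by_contra hc
    have hlt := hG.actW_lt hw hr
    have hpos : 1 ≤ ht D (actW D w r) := by
      have := hG.ht_ne_zero hlt; omega
    set x : GL D.Idx F := u * h * (nw D F w * xg D F r 1 * (nw D F w)⁻¹) * (u * h)⁻¹ with hx
    have hxU : x ∈ D.posUnipotent F := by
      refine conj_pos_of_borel hD hb ?_
      rw [hG.nw_conj_x hw hr]
      exact xg_pos_mem hD hlt hpos _
    let xG : ↥(D.group F) := ⟨x, hG.posUnipotent_le_group hxU⟩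
    have h2 : g₂ * xG * g₂⁻¹ ∈ gU D F := by
      show (g₂ : GL D.Idx F) * x * ((g₂⁻¹ : ↥(D.group F)) : GL D.Idx F) ∈ D.posUnipotent F
      have eg : (g₂ : GL D.Idx F) = (u * h * nw D F w * b')⁻¹ := by
        rw [← e, Subgroup.coe_inv, inv_inv]
      rw [e, eg, show (u * h * nw D F w * b')⁻¹ * x * (u * h * nw D F w * b') =
        b'⁻¹ * xg D F r 1 * b'⁻¹⁻¹ by rw [hx]; group]
      exact conj_pos_of_borel hD (inv_mem hb') (xg_pos_mem hD hr hp 1)
    have h1 : x = 1 := congrArg Subtype.val (htriv xG hxU ((hmem xG).2 h2))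
    rw [hx, conj_eq_one_iff, conj_eq_one_iff] at h1
    exact xg_ne_one hD hr one_ne_zero h1
  let uG : ↥(D.group F) := ⟨u, hG.posUnipotent_le_group hu⟩
  refine ⟨uG⁻¹ * g₁, ?_, ?_⟩
  · have e1 : φ.trans (MulAut.conj (uG⁻¹ * g₁)) = ψ.trans (MulAut.conj uG⁻¹) := by
      ext x; simp [hψ, mul_assoc]
    rw [e1]
    refine le_antisymm ?_ fun x hx => ?_
    · rintro _ ⟨x, hx, rfl⟩
      have := Subgroup.mem_map_of_mem ψ.toMonoidHom hx
      rw [hψU] at this
      exact gU_normal hD (inv_mem (Subgroup.mem_sup_left hu)) this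
    · have hx' : uG * x * uG⁻¹ ∈ gU D F := mul_mem (mul_mem hu hx) (inv_mem hu)
      rw [← hψU] at hx'
      obtain ⟨y, hy, ey⟩ := hx'
      exact ⟨y, hy, by simp [show ψ y = uG * x * uG⁻¹ from ey, mul_assoc]⟩
  · have e1 : φ.trans (MulAut.conj (uG⁻¹ * g₁)) = ψ.trans (MulAut.conj uG⁻¹) := by
      ext x; simp [hψ, mul_assoc]
    rw [e1]
    refine Subgroup.eq_of_le_of_card_ge ?_ (by rw [hcardmap])
    rintro _ ⟨v, hv, rfl⟩
    have h1 : g₂ * ψ v * g₂⁻¹ ∈ gU D F := (hmem _).1 ⟨v, hv, rfl⟩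
    have eg : (g₂ : GL D.Idx F) = (u * h * nw D F w * b')⁻¹ := by
      rw [← e, Subgroup.coe_inv, inv_inv]
    have h2 : (g₂ : GL D.Idx F) * (ψ v : ↥(D.group F)) * (g₂ : GL D.Idx F)⁻¹ ∈ D.posUnipotent F := h1
    rw [eg] at h2
    have h3 := conj_neg_of_diag hD hh (conj_flip hD hw hneg (conj_pos_of_borel hD hb' h2))
    show u⁻¹ * ((ψ v : ↥(D.group F)) : GL D.Idx F) * u⁻¹⁻¹ ∈ D.negUnipotent F
    convert h3 using 1
    group

end finite

end Cfsg.Agent.ChevAut
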