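/-
Minimal parabolic subgroups and the fundamental negative root subgroups.
-/
import Cfsg.Agent.ChevAut.Setup

set_option autoImplicit false

namespace Cfsg.Agent.ChevAut

open Cfsg.Lie Cfsg.Agent.ChevCore Cfsg.Agent.ChevGroup

variable (D : ChevalleyDatum) (F : Type*) [Field F]

/-- `B ⊔ ⟨n_i⟩` -/
noncomputable def parI (i : ℕ) : Subgroup (GL D.Idx F) :=
  D.borelSubgroup F ⊔ Subgroup.closure {ng D F (D.simple i) 1}

variable {D F}
variable (hD : Seven D)

include hD

theorem eta_ne_zero (i s : ℕ) : (eta D i s : F) ≠ 0 := fun h => by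
  have h1 := congrArg (fun z : ℤ => (z : F)) (eta_mul_self (D := D) i s)
  simp [h] at h1

theorem borel_mul_n {i : ℕ} (hi : i < D.rank) {b : GL D.Idx F} (hb : b ∈ D.borelSubgroup F) :
    ∃ b' ∈ D.borelSubgroup F, ∃ t, ng D F (D.simple i) 1 * b =
      b' * ng D F (D.simple i) 1 * xg D F (D.simple i) t := by
  obtain ⟨T, -, -⟩ := exists_model hD
  have hC := commGood_of_mem hD
  let R := T.rel (Chev54.rels hC F)
  have hbR : b ∈ R.B.map (D.group F).subtype := (T.B_map (Chev54.rels hC F)).symm ▸ hb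
  obtain ⟨b0, hb0, rfl⟩ := hbR
  let k : Fin T.tab.l := ⟨i, T.l_eq.symm ▸ hi⟩
  obtain ⟨u, hu, h, hh, t, rfl⟩ := R.B_decomp k hb0
  have hn : ((R.n k : ↥(D.group F)) : GL D.Idx F) = ng D F (D.simple i) 1 := val_engine_n T hC k
  have hx : ((R.x (T.S.simple k) t : ↥(D.group F)) : GL D.Idx F) = xg D F (D.simple i) t := by
    refine Units.ext ?_
    rw [hC.toGood.val_xg]
    show Model.mat (T.xG (Chev54.rels hC F) (T.S.simple k) t) = _
    rw [T.mat_xG, T.simple_eq]
  refine ⟨(((R.n k * u * (R.n k)⁻¹) * (R.n k * h * (R.n k)⁻¹) : ↥(D.group F)) : GL D.Idx F), ?_, t, ?_⟩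
  · rw [← T.B_map (Chev54.rels hC F)]
    exact ⟨_, mul_mem (R.U_le_B (R.Ui_le_U k (R.n_conj_Ui k hu))) (R.H_le_B (R.n_conj_mem_H k hh)), rfl⟩
  · rw [← hn, ← hx]
    simp only [Subgroup.coe_mul, Subgroup.coe_inv, Subgroup.subtype_apply]
    group

theorem n_sq_mem {i : ℕ} (hi : i < D.rank) :
    ng D F (D.simple i) 1 * ng D F (D.simple i) 1 ∈ D.diagonalSubgroup F := by
  have hG := good_of_mem hD
  have h := hG.hg_mem_H (hG.simple_lt hi) (c := (-1 : F)) (neg_ne_zero.2 one_ne_zero)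
  rw [hg, ← hG.ng_inv, ← mul_inv_rev] at h
  simpa using inv_mem h

/-- `x_{-i}(s)` in the big cell of the rank one group -/
theorem y_eq {i : ℕ} {s : F} (hs : s ≠ 0) :
    xg D F (D.neg (D.simple i)) s =
      xg D F (D.simple i) s⁻¹ * ng D F (D.simple i) (-s⁻¹) * xg D F (D.simple i) s⁻¹ := by
  have hG := good_of_mem hD
  simp only [ng, inv_neg, inv_inv, _root_.neg_neg, ← hG.xg_inv]
  group

theorem parI_cases {i : ℕ} (hi : i < D.rank) {g : GL D.Idx F} (hgP : g ∈ parI D F i) :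
    g ∈ D.borelSubgroup F ∨ ∃ b ∈ D.borelSubgroup F, ∃ t,
      g = b * ng D F (D.simple i) 1 * xg D F (D.simple i) t := by
  have hG := good_of_mem hD
  set n := ng D F (D.simple i) 1 with hn
  let Q : GL D.Idx F → Prop := fun g => g ∈ D.borelSubgroup F ∨ ∃ b ∈ D.borelSubgroup F, ∃ t,
      g = b * n * xg D F (D.simple i) t
  have hxB : ∀ t, xg D F (D.simple i) t ∈ D.borelSubgroup F := fun t =>
    Subgroup.mem_sup_left (xg_simple_mem hD hi t)
  have mulB : ∀ g, Q g → ∀ b ∈ D.borelSubgroup F, Q (g * b) := by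
    rintro g (hgB | ⟨c, hc, t, rfl⟩) b hb
    · exact Or.inl (mul_mem hgB hb)
    · obtain ⟨b', hb', u, e⟩ := borel_mul_n hD hi (mul_mem (hxB t) hb)
      refine Or.inr ⟨c * b', mul_mem hc hb', u, ?_⟩
      calc c * n * xg D F (D.simple i) t * b = c * (n * (xg D F (D.simple i) t * b)) := by group
        _ = _ := by rw [hn, e]; group
  have mulN : ∀ g, Q g → Q (g * n) := by
    rintro g (hgB | ⟨c, hc, t, rfl⟩)
    · exact Or.inr ⟨g, hgB, 0, by rw [hG.xg_zero, mul_one]⟩
    · by_cases ht0 : t = 0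
      · subst ht0
        refine Or.inl ?_
        rw [hG.xg_zero, mul_one, mul_assoc]
        exact mul_mem hc (Subgroup.mem_sup_right (n_sq_mem hD hi))
      · set s : F := (eta D i (D.simple i) : F) * t
        have hs : s ≠ 0 := mul_ne_zero (eta_ne_zero hD _ _) ht0
        have e : n * xg D F (D.simple i) t * n⁻¹ = xg D F (D.neg (D.simple i)) s := by
          rw [hn, hG.ng_conj_x hi (hG.simple_lt hi), hG.refl_simple hi]
        have h1 : c * n * xg D F (D.simple i) t * n =
            c * xg D F (D.simple i) s⁻¹ * hg D F (D.simple i) (-s⁻¹) * n * xg D F (D.simple i) s⁻¹ *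
              (n * n) := by
          rw [show c * n * xg D F (D.simple i) t * n = c * (n * xg D F (D.simple i) t * n⁻¹) * (n * n)
            by group, e, y_eq hD hs, hG.ng_eq_hg_mul, ← hn]
          group
        rw [h1]
        refine mulB _ (Or.inr ⟨_, mul_mem (mul_mem hc (hxB _)) (Subgroup.mem_sup_right
          (hG.hg_mem_H (hG.simple_lt hi) (neg_ne_zero.2 (inv_ne_zero hs)))), _, rfl⟩) _
          (Subgroup.mem_sup_right (n_sq_mem hD hi))
  show Q g
  rw [parI, ← Subgroup.closure_eq (D.borelSubgroup F), ← Subgroup.closure_union] at hgP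
  induction hgP using Subgroup.closure_induction_right with
  | one => exact Or.inl (one_mem _)
  | mul_right a _ b hb ha =>
    rcases hb with hb | hb
    · exact mulB a ha b hb
    · rw [Set.mem_singleton_iff.1 hb]; exact mulN a ha
  | mul_inv_cancel a _ b hb ha =>
    rcases hb with hb | hb
    · exact mulB a ha _ (inv_mem hb)
    · rw [Set.mem_singleton_iff.1 hb, show a * n⁻¹ = a * n * (n * n)⁻¹ by group]
      exact mulB _ (mulN a ha) _ (inv_mem (Subgroup.mem_sup_right (n_sq_mem hD hi)))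

theorem y_mem_parI {i : ℕ} (hi : i < D.rank) (t : F) :
    xg D F (D.neg (D.simple i)) t ∈ parI D F i := by
  have hG := good_of_mem hD
  set e : F := (eta D i (D.simple i) : F)
  have h : ng D F (D.simple i) 1 * xg D F (D.simple i) (e * t) * (ng D F (D.simple i) 1)⁻¹ =
      xg D F (D.neg (D.simple i)) t := by
    rw [hG.ng_conj_x hi (hG.simple_lt hi), hG.refl_simple hi, ← mul_assoc, ← Int.cast_mul,
      eta_mul_self, Int.cast_one, one_mul]
  have hn : ng D F (D.simple i) 1 ∈ parI D F i :=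
    Subgroup.mem_sup_right (Subgroup.subset_closure rfl)
  rw [← h]
  exact mul_mem (mul_mem hn (Subgroup.mem_sup_left (Subgroup.mem_sup_left (xg_simple_mem hD hi _))))
    (inv_mem hn)

theorem neg_refl_of_ne {i k : ℕ} (hi : i < D.rank) (hk : k < D.rank) (hne : k ≠ i) :
    1 ≤ ht D (D.reflectRoot i (D.simple k)) := by
  have hG := good_of_mem hD
  have := hG.refl_pos hi (hG.simple_lt hk) (by rw [hG.ht_simple hk]; omega)
    fun e => hne (hG.simple_inj hk hi e)
  omega

theorem simple_x_inj {i k : ℕ} (hi : i < D.rank) (hk : k < D.rank) {t s : F} (ht0 : t ≠ 0)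
    (e : xg D F (D.simple k) t = xg D F (D.simple i) s) : k = i := by
  have hG := good_of_mem hD
  by_contra hne
  have h1 := congrArg (fun g => ng D F (D.simple i) 1 * g * (ng D F (D.simple i) 1)⁻¹) e
  simp only [hG.ng_conj_x hi (hG.simple_lt hk), hG.ng_conj_x hi (hG.simple_lt hi),
    hG.refl_simple hi] at h1
  have h2 := eq_one_of_pos_neg hD
    (xg_pos_mem hD (hG.refl_lt hi (hG.simple_lt hk)) (neg_refl_of_ne hD hi hk hne) _)
    (h1 ▸ xg_negsimple_mem hD hi _)
  exact xg_ne_one hD (hG.refl_lt hi (hG.simple_lt hk)) (mul_ne_zero (eta_ne_zero hD _ _) ht0) h2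

theorem negsimple_x_inj {i k : ℕ} (hi : i < D.rank) (hk : k < D.rank) {t s : F} (ht0 : t ≠ 0)
    (e : xg D F (D.neg (D.simple k)) t = xg D F (D.neg (D.simple i)) s) : k = i := by
  have hG := good_of_mem hD
  by_contra hne
  have h1 := congrArg (fun g => ng D F (D.simple i) 1 * g * (ng D F (D.simple i) 1)⁻¹) e
  simp only [hG.ng_conj_x hi (hG.neg_lt (hG.simple_lt hk)),
    hG.ng_conj_x hi (hG.neg_lt (hG.simple_lt hi))] at h1
  have hlt := hG.refl_lt hi (hG.neg_lt (hG.simple_lt hk))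
  have hpos := neg_refl_of_ne hD hi hk hne
  have hneg : ht D (D.reflectRoot i (D.neg (D.simple k))) ≤ -1 := by
    rw [hG.refl_neg hi (hG.simple_lt hk), hG.ht_neg (hG.refl_lt hi (hG.simple_lt hk))]; omega
  have h2 := eq_one_of_pos_neg hD (g := xg D F (D.reflectRoot i (D.neg (D.simple k))) _)
    (by
      rw [h1]
      exact xg_pos_mem hD (hG.refl_lt hi (hG.neg_lt (hG.simple_lt hi)))
        (by rw [hG.refl_neg hi (hG.simple_lt hi), hG.refl_simple hi, hG.neg_neg (hG.simple_lt hi),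
          hG.ht_simple hi]) _)
    (xg_neg_mem hD hlt hneg _)
  exact xg_ne_one hD hlt (mul_ne_zero (eta_ne_zero hD _ _) ht0) h2

/-- `P_i ∩ V = X_{-i}` -/
theorem parI_inf_neg {i : ℕ} (hi : i < D.rank) {g : GL D.Idx F} (hgP : g ∈ parI D F i)
    (hv : g ∈ D.negUnipotent F) : ∃ t, g = xg D F (D.neg (D.simple i)) t := by
  have hG := good_of_mem hD
  rcases parI_cases hD hi hgP with hb | ⟨b, hb, t, e⟩
  · exact ⟨0, by rw [hG.xg_zero]; exact eq_one_of_borel_neg hD hb hv⟩
  set n := ng D F (D.simple i) 1 with hn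
  by_cases ht0 : t = 0
  · exfalso
    subst ht0
    rw [hG.xg_zero, mul_one] at e
    set y := xg D F (D.neg (D.simple i)) (1 : F)
    have h1 : n * y * n⁻¹ = xg D F (D.simple i) ((eta D i (D.neg (D.simple i)) : F) * 1) := by
      rw [hn, hG.ng_conj_x hi (hG.neg_lt (hG.simple_lt hi)), hG.refl_neg hi (hG.simple_lt hi),
        hG.refl_simple hi, hG.neg_neg (hG.simple_lt hi)]
    have h2 : g * y * g⁻¹ ∈ D.posUnipotent F := by
      rw [e, show b * n * y * (b * n)⁻¹ = b * (n * y * n⁻¹) * b⁻¹ by group, h1]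
      exact conj_pos_of_borel hD hb (xg_simple_mem hD hi _)
    have h3 := eq_one_of_pos_neg hD h2
      (mul_mem (mul_mem hv (xg_negsimple_mem hD hi 1)) (inv_mem hv))
    exact xg_ne_one hD (hG.neg_lt (hG.simple_lt hi)) one_ne_zero (conj_eq_one_iff.1 h3)
  · set s : F := (eta D i (D.simple i) : F) * t
    have hs : s ≠ 0 := mul_ne_zero (eta_ne_zero hD _ _) ht0
    have e1 : n * xg D F (D.simple i) t = xg D F (D.neg (D.simple i)) s * n := by
      rw [← mul_inv_eq_iff_eq_mul, hn, hG.ng_conj_x hi (hG.simple_lt hi), hG.refl_simple hi]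
    set s' : F := (eta D i (D.simple i) : F) * s⁻¹
    have e2 : n * xg D F (D.simple i) s⁻¹ = xg D F (D.neg (D.simple i)) s' * n := by
      rw [← mul_inv_eq_iff_eq_mul, hn, hG.ng_conj_x hi (hG.simple_lt hi), hG.refl_simple hi]
    obtain ⟨a, ha0, ha⟩ := hG.conj_xg_of_mem_H (n_sq_mem (F := F) hD hi) (hG.neg_lt (hG.simple_lt hi))
    refine ⟨a⁻¹ * s', ?_⟩
    have hg' : g = b * xg D F (D.simple i) s⁻¹ * hg D F (D.simple i) (-s⁻¹) *
        (xg D F (D.neg (D.simple i)) s' * (n * n)) := by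
      calc g = b * (n * xg D F (D.simple i) t) := by rw [e, mul_assoc]
        _ = b * (xg D F (D.simple i) s⁻¹ * ng D F (D.simple i) (-s⁻¹) * xg D F (D.simple i) s⁻¹ * n) := by
          rw [e1, y_eq hD hs]
        _ = b * xg D F (D.simple i) s⁻¹ * hg D F (D.simple i) (-s⁻¹) *
            ((n * xg D F (D.simple i) s⁻¹) * n) := by rw [hG.ng_eq_hg_mul, ← hn]; group
        _ = _ := by rw [e2]; group
    have hx : xg D F (D.neg (D.simple i)) s' * (n * n) =
        (n * n) * xg D F (D.neg (D.simple i)) (a⁻¹ * s') := by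
      have h4 := ha (a⁻¹ * s')
      rw [show a * (a⁻¹ * s') = s' from mul_inv_cancel_left₀ ha0 s', mul_inv_eq_iff_eq_mul] at h4
      exact h4.symm
    rw [hx] at hg'
    have hbB : b * xg D F (D.simple i) s⁻¹ * hg D F (D.simple i) (-s⁻¹) * (n * n) ∈
        D.borelSubgroup F :=
      mul_mem (mul_mem (mul_mem hb (Subgroup.mem_sup_left (xg_simple_mem hD hi _)))
        (Subgroup.mem_sup_right (hG.hg_mem_H (hG.simple_lt hi) (neg_ne_zero.2 (inv_ne_zero hs)))))
        (Subgroup.mem_sup_right (n_sq_mem hD hi))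
    set y := xg D F (D.neg (D.simple i)) (a⁻¹ * s')
    have h5 : b * xg D F (D.simple i) s⁻¹ * hg D F (D.simple i) (-s⁻¹) * (n * n) = g * y⁻¹ := by
      rw [hg']; group
    have h6 := eq_one_of_borel_neg hD hbB (h5 ▸ mul_mem hv (inv_mem (xg_negsimple_mem hD hi _)))
    rw [h6] at h5
    have h7 : g = y := mul_inv_eq_one.1 h5.symm
    exact h7

end Cfsg.Agent.ChevAut
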