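/-
A longest word sending every fundamental root to the negative of a fundamental root.
-/
import Cfsg.Agent.ChevAut.Setup

set_option autoImplicit false

namespace Cfsg.Agent.ChevAut

open Cfsg.Lie Cfsg.Agent.ChevCore Cfsg.Agent.ChevGroup

/-- each fundamental root goes to the negative of a fundamental one -/
def starB {D : ChevalleyDatum} (T : Model D) (w : List (Fin T.tab.l)) : Bool :=
  (List.finRange T.tab.l).all fun i => (List.finRange T.tab.l).any fun j =>
    decide ((T.S.actw w.reverse (T.S.simple i)).val = (T.S.neg (T.S.simple j)).val)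

theorem starG2 : starB TypeG2.model TypeG2.w0 = true := by decide +kernel
theorem starB2 : starB TypeB2.model TypeB2.w0 = true := by decide +kernel
theorem starD4 : starB TypeD4.model TypeD4.w0 = true := by decide +kernel
theorem starF4 : starB TypeF4.model TypeF4.w0 = true := by decide +kernel
theorem starE6 : starB TypeE6.model TypeE6.w0 = true := by decide +kernel
theorem starE7 : starB TypeE7.model TypeE7.w0 = true := by decide +kernel
theorem starE8 : starB TypeE8.model TypeE8.w0 = true := by decide +kernel

theorem of_star {D : ChevalleyDatum} (hG : Good D) (T : Model D) {w : List (Fin T.tab.l)}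
    (hw : T.longestB w = true) (hs : starB T w = true) :
    ∃ v : List ℕ, (∀ i ∈ v, i < D.rank) ∧
      (∀ r < D.nroots, 1 ≤ ht D r → ht D (actW D v r) ≤ -1) ∧
      ∀ i < D.rank, ∃ j < D.rank, actW D v (D.simple i) = D.neg (D.simple j) := by
  have hv : ∀ i ∈ w.reverse.map Fin.val, i < D.rank := by
    intro i hi
    obtain ⟨j, -, rfl⟩ := List.mem_map.1 hi
    exact T.lt_l j
  refine ⟨w.reverse.map Fin.val, hv, fun r hr hp => ?_, fun i hi => ?_⟩
  · have h := (engine_pos T hG _).1 (T.longest_neg hw ⟨r, T.n_eq.symm ▸ hr⟩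
      ((engine_pos T hG _).2 (by show 0 < ht D r; omega)))
    rw [T.neg_eq, engine_actw T, hG.ht_neg (hG.actW_lt hv hr)] at h
    change 0 < -ht D (actW D (w.reverse.map Fin.val) r) at h
    omega
  · simp only [starB, List.all_eq_true, List.any_eq_true, decide_eq_true_eq] at hs
    obtain ⟨j, -, e⟩ := hs ⟨i, T.l_eq.symm ▸ hi⟩ (List.mem_finRange _)
    refine ⟨j.val, T.lt_l j, ?_⟩
    rw [T.neg_eq, T.simple_eq, engine_actw T, T.simple_eq] at e
    exact e

theorem exists_starWord {D : ChevalleyDatum} (hD : Seven D) :
    ∃ v : List ℕ, (∀ i ∈ v, i < D.rank) ∧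
      (∀ r < D.nroots, 1 ≤ ht D r → ht D (actW D v r) ≤ -1) ∧
      ∀ i < D.rank, ∃ j < D.rank, actW D v (D.simple i) = D.neg (D.simple j) := by
  simp only [Seven, List.mem_cons, List.not_mem_nil, or_false] at hD
  rcases hD with rfl | rfl | rfl | rfl | rfl | rfl | rfl
  exacts [of_star (good_of_mem (by simp)) _ TypeG2.longest_ok starG2,
    of_star (good_of_mem (by simp)) _ TypeB2.longest_ok starB2,
    of_star (good_of_mem (by simp)) _ TypeD4.longest_ok starD4,
    of_star (good_of_mem (by simp)) _ TypeF4.longest_ok starF4,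
    of_star (good_of_mem (by simp)) _ TypeE6.longest_ok starE6,
    of_star (good_of_mem (by simp)) _ TypeE7.longest_ok starE7,
    of_star (good_of_mem (by simp)) _ TypeE8.longest_ok starE8]

end Cfsg.Agent.ChevAut
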