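/-
A normalised automorphism permutes the fundamental root subgroups and their negatives.
-/
import Cfsg.Agent.ChevAut.MinPar
import Cfsg.Agent.ChevAut.StarWord

set_option autoImplicit false

namespace Cfsg.Agent.ChevAut

open Cfsg.Lie Cfsg.Agent.ChevCore

variable {D : ChevalleyDatum} {F : Type*} [Field F]

/-- `φ` preserves `U` and `V` -/
def Normalised (φ : MulAut ↥(D.group F)) : Prop :=
  (∀ x, φ x ∈ gU D F ↔ x ∈ gU D F) ∧ ∀ x, φ x ∈ gV D F ↔ x ∈ gV D F

theorem Normalised.symm {φ : MulAut ↥(D.group F)} (h : Normalised φ) :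
    Normalised (MulEquiv.symm φ) :=
  ⟨fun x => by rw [← h.1 (φ.symm x), φ.apply_symm_apply],
    fun x => by rw [← h.2 (φ.symm x), φ.apply_symm_apply]⟩

theorem normalised_of_map {φ : MulAut ↥(D.group F)} (hU : (gU D F).map φ.toMonoidHom = gU D F)
    (hV : (gV D F).map φ.toMonoidHom = gV D F) : Normalised φ := by
  constructor
  · intro x; conv_lhs => rw [← hU]
    exact Subgroup.mem_map_iff_mem φ.injective
  · intro x; conv_lhs => rw [← hV]
    exact Subgroup.mem_map_iff_mem φ.injective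

/-- the minimal parabolic inside the group -/
noncomputable def gP (D : ChevalleyDatum) (F : Type*) [Field F] (i : ℕ) : Subgroup ↥(D.group F) :=
  (parI D F i).subgroupOf (D.group F)

variable (hD : Seven D)

include hD

theorem Normalised.mem_gB {φ : MulAut ↥(D.group F)} (h : Normalised φ) (x : ↥(D.group F)) :
    φ x ∈ gB D F ↔ x ∈ gB D F := by
  constructor
  · intro hx
    refine mem_gB_of_normal hD fun u hu => (h.1 _).1 ?_
    rw [map_mul, map_mul, map_inv]
    exact gU_normal hD hx ((h.1 u).2 hu)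
  · intro hx
    refine mem_gB_of_normal hD fun u hu => ?_
    have h2 : φ (x * φ.symm u * x⁻¹) ∈ gU D F :=
      (h.1 _).2 (gU_normal hD hx ((h.symm.1 u).2 hu))
    simpa using h2

theorem parI_le_group (i : ℕ) : parI D F i ≤ D.group F := by
  have hG := good_of_mem hD
  refine sup_le hG.borelSubgroup_le_group ((Subgroup.closure_le _).2 ?_)
  rintro x rfl
  exact hG.ng_mem_group _ _

theorem ng_not_mem_borel {i : ℕ} (hi : i < D.rank) :
    ng D F (D.simple i) 1 ∉ D.borelSubgroup F := by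
  intro hb
  have hG := good_of_mem hD
  have h1 := conj_pos_of_borel hD hb (xg_simple_mem hD hi (1 : F))
  rw [hG.ng_conj_x hi (hG.simple_lt hi), hG.refl_simple hi] at h1
  exact xg_ne_one hD (hG.neg_lt (hG.simple_lt hi)) (mul_ne_zero (eta_ne_zero hD _ _) one_ne_zero)
    (eq_one_of_pos_neg hD h1 (xg_negsimple_mem hD hi _))

theorem exists_gP_le {K : Subgroup ↥(D.group F)} (hB : gB D F ≤ K) {x : ↥(D.group F)}
    (hx : x ∈ K) (hxB : x ∉ gB D F) : ∃ j < D.rank, gP D F j ≤ K := by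
  have hG := good_of_mem hD
  set K' := K.map (D.group F).subtype
  have hB' : D.borelSubgroup F ≤ K' := fun b hb =>
    ⟨⟨b, hG.borelSubgroup_le_group hb⟩, hB hb, rfl⟩
  obtain ⟨b, hb, w, hw, hred, b', hb', e⟩ := exists_bruhat_mem hD x.2
  cases w with
  | nil =>
    exfalso
    apply hxB
    show (x : GL D.Idx F) ∈ D.borelSubgroup F
    rw [e]; simpa [nw] using mul_mem hb hb'
  | cons j u =>
    have hj := hw j (by simp)
    refine ⟨j, hj, ?_⟩
    have hw' : nw D F (j :: u) ∈ K' := by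
      have h1 : (x : GL D.Idx F) ∈ K' := ⟨x, hx, rfl⟩
      have h2 := mul_mem (mul_mem (inv_mem (hB' hb)) h1) (inv_mem (hB' hb'))
      rw [e] at h2
      simpa [mul_assoc] using h2
    obtain ⟨γ, hγ, hpos, hact⟩ := exists_red_neg hD hw hred
    have hy : ∀ t, xg D F (D.neg (D.simple j)) t ∈ K' := by
      intro t
      have h1 := mul_mem (mul_mem hw' (hB' (Subgroup.mem_sup_left
        (xg_pos_mem hD hγ hpos ((etaWord D (j :: u) γ : F) * t))))) (inv_mem hw')
      rwa [hG.nw_conj_x hw hγ, hact, ← mul_assoc, ← Int.cast_mul, Good.etaWord_sq, Int.cast_one,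
        one_mul] at h1
    have hn : ng D F (D.simple j) 1 ∈ K' :=
      mul_mem (mul_mem (hB' (Subgroup.mem_sup_left (xg_simple_mem hD hj _))) (hy _))
        (hB' (Subgroup.mem_sup_left (xg_simple_mem hD hj _)))
    have hle : parI D F j ≤ K' := sup_le hB' ((Subgroup.closure_le _).2 (by simpa using hn))
    intro g hg
    obtain ⟨k, hk, ek⟩ := hle hg
    rwa [← Subtype.ext ek]

theorem gP_mem_y {i : ℕ} (hi : i < D.rank) (t : F) :
    (⟨xg D F (D.neg (D.simple i)) t, (good_of_mem hD).xg_mem_group _ _⟩ : ↥(D.group F)) ∈ gP D F i :=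
  y_mem_parI hD hi t

theorem gP_eq_of_le {i k : ℕ} (hi : i < D.rank) (hk : k < D.rank) (h : gP D F k ≤ gP D F i) :
    k = i := by
  obtain ⟨s, hs⟩ := parI_inf_neg hD hi (h (gP_mem_y hD hk (1 : F))) (xg_negsimple_mem hD hk _)
  exact negsimple_x_inj hD hi hk one_ne_zero hs

/-- negative fundamental root subgroups are permuted -/
theorem exists_neg_perm {φ : MulAut ↥(D.group F)} (h : Normalised φ) {i : ℕ} (hi : i < D.rank) :
    ∃ j < D.rank, ∀ g : ↥(D.group F), (∃ t, (g : GL D.Idx F) = xg D F (D.neg (D.simple i)) t) ↔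
      ∃ t, ((φ g : ↥(D.group F)) : GL D.Idx F) = xg D F (D.neg (D.simple j)) t := by
  have hG := good_of_mem hD
  have key : ∀ {ψ : MulAut ↥(D.group F)}, Normalised ψ → ∀ {a : ℕ}, a < D.rank →
      ∃ b < D.rank, gP D F b ≤ (gP D F a).map ψ.toMonoidHom := by
    intro ψ hψ a ha
    refine exists_gP_le hD ?_ (x := ψ ⟨ng D F (D.simple a) 1, hG.ng_mem_group _ _⟩)
      (Subgroup.mem_map_of_mem _ ?_) ?_
    · intro b hb
      exact ⟨ψ.symm b, (Subgroup.mem_sup_left ((hψ.symm.mem_gB hD b).2 hb) : _ ∈ parI D F a),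
        ψ.apply_symm_apply b⟩
    · exact (Subgroup.mem_sup_right (Subgroup.subset_closure rfl) : _ ∈ parI D F a)
    · rw [hψ.mem_gB hD]
      exact ng_not_mem_borel hD ha
  obtain ⟨j, hj, hle⟩ := key h hi
  obtain ⟨k, hk, hle'⟩ := key h.symm hj
  have hki : k = i := gP_eq_of_le hD hi hk fun g hg => by
    obtain ⟨y, hy, e⟩ := hle' hg
    obtain ⟨z, hz, e'⟩ := hle hy
    have : g = z := by rw [← e, ← e']; simp
    rwa [this]
  subst hki
  have hP : ∀ g, φ g ∈ gP D F j ↔ g ∈ gP D F k := by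
    intro g
    constructor
    · intro hg
      obtain ⟨z, hz, e⟩ := hle hg
      rwa [← φ.injective e]
    · intro hg
      obtain ⟨y, hy, e⟩ := hle' hg
      rw [← e]; simpa using hy
  refine ⟨j, hj, fun g => ⟨?_, ?_⟩⟩
  · rintro ⟨t, e⟩
    have h1 : g ∈ gP D F k := by
      show (g : GL D.Idx F) ∈ parI D F k
      rw [e]; exact y_mem_parI hD hk t
    have h2 : g ∈ gV D F := by
      show (g : GL D.Idx F) ∈ D.negUnipotent F
      rw [e]; exact xg_negsimple_mem hD hk t
    exact parI_inf_neg hD hj ((hP g).2 h1) ((h.2 g).2 h2)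
  · rintro ⟨t, e⟩
    have h1 : φ g ∈ gP D F j := by
      show ((φ g : ↥(D.group F)) : GL D.Idx F) ∈ parI D F j
      rw [e]; exact y_mem_parI hD hj t
    have h2 : φ g ∈ gV D F := by
      show ((φ g : ↥(D.group F)) : GL D.Idx F) ∈ D.negUnipotent F
      rw [e]; exact xg_negsimple_mem hD hj t
    exact parI_inf_neg hD hk ((hP g).1 h1) ((h.2 g).1 h2)

/-- distinct fundamental roots: positive and negative root elements commute -/
theorem commute_xy {i j : ℕ} (hi : i < D.rank) (hj : j < D.rank) (hne : i ≠ j) (t u : F) :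
    Commute (xg D F (D.simple i) t) (xg D F (D.neg (D.simple j)) u) := by
  have hC := commGood_of_mem hD
  have hG := hC.toGood
  have hsi := hG.simple_lt hi
  have hsj := hG.neg_lt (hG.simple_lt hj)
  have hht : ht D (D.neg (D.simple j)) ≠ ht D (D.simple i) := by
    rw [hG.ht_neg (hG.simple_lt hj), hG.ht_simple hi, hG.ht_simple hj]; omega
  have h2 : D.neg (D.simple j) ≠ D.neg (D.simple i) := fun e =>
    hne (hG.simple_inj hi hj (hG.neg_inj hsi (hG.simple_lt hj) e.symm))
  have he : wordG D F (D.commWord F (D.simple i) (D.neg (D.simple j)) t u) = 1 := by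
    refine List.prod_eq_one fun g hg => ?_
    obtain ⟨p, hp, rfl⟩ := List.mem_map.1 hg
    obtain ⟨c, hc, rfl⟩ := List.mem_map.1 hp
    exfalso
    obtain ⟨hc0, hc1, hc2, hc3⟩ := hG.commTerms_coef hsi hsj hc
    have a1 : 0 < coef D c.1 i := by
      rw [hc3 i hi, hG.coef_simple hi hi, hG.coef_neg (hG.simple_lt hj) hi, hG.coef_simple hj hi,
        if_pos rfl, if_neg hne]
      simp; omega
    have a2 := hG.coef_nonneg hc0 (hG.ht_pos_of_coef hc0 hi a1) hj
    rw [hc3 j hj, hG.coef_simple hi hj, hG.coef_neg (hG.simple_lt hj) hj, hG.coef_simple hj hj,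
      if_pos rfl, if_neg (Ne.symm hne)] at a2
    simp at a2; omega
  have := hC.xg_comm hsi hsj (fun e => hht (by rw [e])) h2 t u
  rw [he, mul_one] at this
  exact this.symm

theorem not_commute_xy {i : ℕ} (hi : i < D.rank) {t u : F} (ht0 : t ≠ 0) (hu0 : u ≠ 0) :
    ¬ Commute (xg D F (D.simple i) t) (xg D F (D.neg (D.simple i)) u) := by
  intro hc
  have hG := good_of_mem hD
  set x := xg D F (D.simple i) t with hx
  set y := xg D F (D.neg (D.simple i)) u with hy
  set s := u with hs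
  -- write `x` as a word in the negative root group and `N`
  have e : y = xg D F (D.simple i) s⁻¹ * ng D F (D.simple i) (-s⁻¹) * xg D F (D.simple i) s⁻¹ :=
    y_eq hD hu0
  set x' := xg D F (D.simple i) s⁻¹
  have hcx : Commute x x' := by
    show x * x' = x' * x
    rw [hx, ← hG.xg_add, ← hG.xg_add, add_comm]
  have hN : ng D F (D.simple i) (-s⁻¹) * x * (ng D F (D.simple i) (-s⁻¹))⁻¹ = x := by
    have h1 : ng D F (D.simple i) (-s⁻¹) = x'⁻¹ * y * x'⁻¹ := by rw [e]; group
    have h2 : Commute x (x'⁻¹ * y * x'⁻¹) :=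
      (hcx.inv_right.mul_right hc).mul_right hcx.inv_right
    rw [h1, ← h2.eq]; group
  rw [hG.ng_eq_hg_mul, hx, show hg D F (D.simple i) (-s⁻¹) * ng D F (D.simple i) 1 *
    xg D F (D.simple i) t * (hg D F (D.simple i) (-s⁻¹) * ng D F (D.simple i) 1)⁻¹ =
    hg D F (D.simple i) (-s⁻¹) * (ng D F (D.simple i) 1 * xg D F (D.simple i) t *
      (ng D F (D.simple i) 1)⁻¹) * (hg D F (D.simple i) (-s⁻¹))⁻¹ by group,
    hG.ng_conj_x hi (hG.simple_lt hi), hG.refl_simple hi,
    hG.hg_conj_x (hG.simple_lt hi) (hG.neg_lt (hG.simple_lt hi)) (neg_ne_zero.2 (inv_ne_zero hu0))]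
    at hN
  exact xg_ne_one hD (hG.simple_lt hi) ht0
    (eq_one_of_pos_neg hD (xg_simple_mem hD hi t) (hN ▸ xg_negsimple_mem hD hi _))

/-- the monomial element of a longest word exchanges `U` and `V` -/
theorem flip_iff [Fintype F] {v : List ℕ} (hv : ∀ i ∈ v, i < D.rank)
    (hneg : ∀ r < D.nroots, 1 ≤ ht D r → ht D (actW D v r) ≤ -1) (n : ↥(D.group F))
    (hn : (n : GL D.Idx F) = nw D F v) (x : ↥(D.group F)) :
    (n * x * n⁻¹ ∈ gV D F ↔ x ∈ gU D F) ∧ (n * x * n⁻¹ ∈ gU D F ↔ x ∈ gV D F) := by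
  classical
  haveI : Finite ↥(D.group F) := inferInstance
  have hinj := (MulAut.conj n).injective
  have hcard : ∀ K : Subgroup ↥(D.group F),
      Nat.card (K.map (MulAut.conj n).toMonoidHom) = Nat.card K := fun K =>
    Nat.card_congr (K.equivMapOfInjective _ hinj).toEquiv.symm
  have h1 : (gU D F).map (MulAut.conj n).toMonoidHom = gV D F := by
    refine Subgroup.eq_of_le_of_card_ge ?_ (by rw [hcard, nat_card_gV hD])
    rintro _ ⟨z, hz, rfl⟩
    show (n : GL D.Idx F) * (z : GL D.Idx F) * (n : GL D.Idx F)⁻¹ ∈ D.negUnipotent F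
    rw [hn]; exact conj_flip hD hv hneg hz
  have h2 : (gV D F).map (MulAut.conj n).toMonoidHom = gU D F := by
    refine Subgroup.eq_of_le_of_card_ge ?_ (by rw [hcard, nat_card_gV hD])
    rintro _ ⟨z, hz, rfl⟩
    show (n : GL D.Idx F) * (z : GL D.Idx F) * (n : GL D.Idx F)⁻¹ ∈ D.posUnipotent F
    rw [hn]; exact conj_flip' hD hv hneg hz
  constructor
  · rw [← h1]; exact Subgroup.mem_map_iff_mem hinj
  · rw [← h2]; exact Subgroup.mem_map_iff_mem hinj

/-- the fundamental root subgroups are permuted by one permutation -/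
theorem exists_perm [Fintype F] {φ : MulAut ↥(D.group F)} (h : Normalised φ) :
    ∃ π : Equiv.Perm (Fin D.rank), ∀ (i : Fin D.rank) (g : ↥(D.group F)),
      ((∃ t, (g : GL D.Idx F) = xg D F (D.simple i) t) ↔
        ∃ t, ((φ g : ↥(D.group F)) : GL D.Idx F) = xg D F (D.simple (π i)) t) ∧
      ((∃ t, (g : GL D.Idx F) = xg D F (D.neg (D.simple i)) t) ↔
        ∃ t, ((φ g : ↥(D.group F)) : GL D.Idx F) = xg D F (D.neg (D.simple (π i))) t) := by
  classical
  have hG := good_of_mem hD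
  obtain ⟨v, hv, hneg, hstar⟩ := exists_starWord hD
  have hactn : ∀ (i j : Fin D.rank), actW D v (D.simple i) = D.neg (D.simple j) →
      actW D v (D.neg (D.simple i)) = D.simple j := fun i j e => by
    rw [hG.actW_neg hv (hG.simple_lt i.isLt), e, hG.neg_neg (hG.simple_lt j.isLt)]
  choose st hst1 hst2 using fun i : Fin D.rank => hstar i.val i.isLt
  let star : Fin D.rank → Fin D.rank := fun i => ⟨st i, hst1 i⟩
  let n : ↥(D.group F) := ⟨nw D F v, hG.monomialSubgroup_le_group (hG.nw_mem_N hv)⟩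
  have hflip := flip_iff hD hv hneg n rfl
  -- `x_{star k}` is the conjugate of `y_k`
  have hxy : ∀ (k : Fin D.rank) (g : ↥(D.group F)),
      (∃ t, (g : GL D.Idx F) = xg D F (D.simple (star k)) t) ↔
        ∃ t, ((n⁻¹ * g * n : ↥(D.group F)) : GL D.Idx F) = xg D F (D.neg (D.simple k)) t := by
    intro k g
    set e : F := (etaWord D v (D.neg (D.simple k)) : F)
    have he : e * e = 1 := by rw [← Int.cast_mul, Good.etaWord_sq, Int.cast_one]
    have hc : ∀ t, nw D F v * xg D F (D.neg (D.simple k)) t * (nw D F v)⁻¹ =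
        xg D F (D.simple (star k)) (e * t) := fun t => by
      rw [hG.nw_conj_x hv (hG.neg_lt (hG.simple_lt k.isLt)), hactn k (star k) (hst2 k)]
    constructor
    · rintro ⟨t, ht⟩
      refine ⟨e * t, ?_⟩
      show (nw D F v)⁻¹ * (g : GL D.Idx F) * nw D F v = _
      have h1 := hc (e * t)
      rw [← mul_assoc e e t, he, one_mul] at h1
      rw [ht, ← h1]; group
    · rintro ⟨t, ht⟩
      refine ⟨e * t, ?_⟩
      rw [← hc, ← ht]
      show (g : GL D.Idx F) = nw D F v * ((nw D F v)⁻¹ * (g : GL D.Idx F) * nw D F v) * (nw D F v)⁻¹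
      group
  let ψ : MulAut ↥(D.group F) := ((MulAut.conj n).trans φ).trans (MulAut.conj n⁻¹)
  have hψ : ∀ x, ψ x = n⁻¹ * φ (n * x * n⁻¹) * n := fun x => by simp [ψ, mul_assoc]
  have hψN : Normalised ψ := by
    constructor
    · intro x
      rw [hψ, ← (hflip _).1, show n * (n⁻¹ * φ (n * x * n⁻¹) * n) * n⁻¹ = φ (n * x * n⁻¹) by group,
        h.2, (hflip x).1]
    · intro x
      rw [hψ, ← (hflip _).2, show n * (n⁻¹ * φ (n * x * n⁻¹) * n) * n⁻¹ = φ (n * x * n⁻¹) by group,
        h.1, (hflip x).2]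
  choose p hp1 hp2 using fun i : Fin D.rank => exists_neg_perm hD h i.isLt
  choose q hq1 hq2 using fun i : Fin D.rank => exists_neg_perm hD hψN i.isLt
  let π₀ : Fin D.rank → Fin D.rank := fun i => ⟨p i, hp1 i⟩
  have hstar_inj : Function.Injective star := by
    intro a b e
    obtain ⟨t, ht⟩ : ∃ t, ((n⁻¹ * (n * ⟨xg D F (D.neg (D.simple a)) 1, hG.xg_mem_group _ _⟩ * n⁻¹) * n :
        ↥(D.group F)) : GL D.Idx F) = xg D F (D.neg (D.simple b)) t := by
      refine (hxy b _).1 (e ▸ (hxy a _).2 ⟨1, ?_⟩)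
      simp [mul_assoc]
    refine Fin.ext (negsimple_x_inj hD b.isLt a.isLt one_ne_zero (s := t) ?_)
    simpa [mul_assoc] using ht
  have hstar_surj := Finite.surjective_of_injective hstar_inj
  choose inv hinv using hstar_surj
  let σ₀ : Fin D.rank → Fin D.rank := fun i => star ⟨q (inv i), hq1 _⟩
  have hx : ∀ (i : Fin D.rank) (g : ↥(D.group F)),
      (∃ t, (g : GL D.Idx F) = xg D F (D.simple i) t) ↔
        ∃ t, ((φ g : ↥(D.group F)) : GL D.Idx F) = xg D F (D.simple (σ₀ i)) t := by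
    intro i g
    conv_lhs => rw [← hinv i]
    rw [hxy, hxy ⟨q (inv i), hq1 _⟩, hq2 (inv i), hψ]
    rw [show n * (n⁻¹ * g * n) * n⁻¹ = g by group]
  have heq : ∀ i, σ₀ i = π₀ i := by
    intro i
    by_contra hne
    let a : ↥(D.group F) := ⟨xg D F (D.simple i) 1, hG.xg_mem_group _ _⟩
    let b : ↥(D.group F) := ⟨xg D F (D.neg (D.simple i)) 1, hG.xg_mem_group _ _⟩
    obtain ⟨t, ht⟩ := (hx i a).1 ⟨1, rfl⟩
    obtain ⟨u, hu⟩ := (hp2 i b).1 ⟨1, rfl⟩
    have hc : Commute (φ a) (φ b) := by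
      refine Subtype.ext ?_
      rw [Subgroup.coe_mul, Subgroup.coe_mul, ht, hu]
      exact (commute_xy hD (σ₀ i).isLt (π₀ i).isLt (fun e => hne (Fin.ext e)) t u).eq
    have hc' : a * b = b * a := φ.injective (by rw [map_mul, map_mul]; exact hc.eq)
    exact not_commute_xy hD i.isLt one_ne_zero one_ne_zero (congrArg Subtype.val hc')
  have hπinj : Function.Injective π₀ := by
    intro a c e
    obtain ⟨t, ht⟩ := (hp2 a ⟨xg D F (D.neg (D.simple a)) 1, hG.xg_mem_group _ _⟩).1 ⟨1, rfl⟩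
    obtain ⟨s, hs⟩ := (hp2 c _).2 ⟨t, by rw [ht]; exact congrArg (fun z : Fin D.rank => xg D F (D.neg (D.simple z)) t) e⟩
    exact Fin.ext (negsimple_x_inj hD c.isLt a.isLt one_ne_zero hs)
  refine ⟨Equiv.ofBijective π₀ ⟨hπinj, Finite.surjective_of_injective hπinj⟩, fun i g => ⟨?_, hp2 i g⟩⟩
  rw [hx i g, heq i]
  rfl

end Cfsg.Agent.ChevAut
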