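/-
Identities in the rank one subgroup of a fundamental root, and commuting fundamental root elements.
-/
import Cfsg.Agent.ChevAut.Perm

set_option autoImplicit false

namespace Cfsg.Agent.ChevAut

open Cfsg.Lie Cfsg.Agent.ChevCore

variable {D : ChevalleyDatum} {F : Type*} [Field F]
variable (hD : Seven D)

include hD

theorem neg_conj {i : ℕ} (hi : i < D.rank) {c : F} (hc : c ≠ 0) (t : F) :
    ng D F (D.simple i) c * xg D F (D.simple i) t * (ng D F (D.simple i) c)⁻¹ =
      xg D F (D.neg (D.simple i)) ((c * c)⁻¹ * ((eta D i (D.simple i) : F) * t)) := by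
  have hG := good_of_mem hD
  rw [hG.ng_eq_hg_mul, show hg D F (D.simple i) c * ng D F (D.simple i) 1 *
    xg D F (D.simple i) t * (hg D F (D.simple i) c * ng D F (D.simple i) 1)⁻¹ =
    hg D F (D.simple i) c * (ng D F (D.simple i) 1 * xg D F (D.simple i) t *
      (ng D F (D.simple i) 1)⁻¹) * (hg D F (D.simple i) c)⁻¹ by group,
    hG.ng_conj_x hi (hG.simple_lt hi), hG.refl_simple hi,
    hG.hg_conj_x (hG.simple_lt hi) (hG.neg_lt (hG.simple_lt hi)) hc,
    hG.pairing_neg (hG.simple_lt hi), _root_.zpow_neg, zpow_two]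

theorem ng_mul_ng_mem {i : ℕ} (hi : i < D.rank) {c d : F} (hc : c ≠ 0) (hd : d ≠ 0) :
    ng D F (D.simple i) c * ng D F (D.simple i) d ∈ D.diagonalSubgroup F := by
  have hG := good_of_mem hD
  have P := hG.pairRel_root (F := F) (hG.simple_lt hi)
  have h : ng D F (D.simple i) 1 * hg D F (D.simple i) d =
      hg D F (D.simple i) d⁻¹ * ng D F (D.simple i) 1 := P.n_h d hd
  rw [hG.ng_eq_hg_mul (D.simple i) c, hG.ng_eq_hg_mul (D.simple i) d,
    show hg D F (D.simple i) c * ng D F (D.simple i) 1 *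
      (hg D F (D.simple i) d * ng D F (D.simple i) 1) =
      hg D F (D.simple i) c * (ng D F (D.simple i) 1 * hg D F (D.simple i) d) *
        ng D F (D.simple i) 1 by group, h,
    show hg D F (D.simple i) c * (hg D F (D.simple i) d⁻¹ * ng D F (D.simple i) 1) *
      ng D F (D.simple i) 1 = hg D F (D.simple i) c * hg D F (D.simple i) d⁻¹ *
        (ng D F (D.simple i) 1 * ng D F (D.simple i) 1) by group]
  exact mul_mem (mul_mem (hG.hg_mem_H (hG.simple_lt hi) hc)
    (hG.hg_mem_H (hG.simple_lt hi) (inv_ne_zero hd))) (n_sq_mem hD hi)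

/-- a conjugate of `x_{-i}(s₀)` by a non-trivial `x_i(e)` is not in `X_{-i}` -/
theorem shift_eq_zero {i : ℕ} (hi : i < D.rank) {e s₀ s : F} (hs₀ : s₀ ≠ 0)
    (h : xg D F (D.simple i) e * xg D F (D.neg (D.simple i)) s₀ * xg D F (D.simple i) (-e) =
      xg D F (D.neg (D.simple i)) s) : e = 0 := by
  have hG := good_of_mem hD
  have hp := hG.simple_lt hi
  have hn := hG.neg_lt hp
  have hs : s ≠ 0 := by
    rintro rfl
    rw [hG.xg_zero, ← hG.xg_inv, conj_eq_one_iff] at h
    exact xg_ne_one hD hn hs₀ h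
  set N := ng D F (D.simple i) (-s⁻¹) with hN
  set N₀ := ng D F (D.simple i) (-s₀⁻¹) with hN₀
  have hc : -s⁻¹ ≠ (0 : F) := neg_ne_zero.2 (inv_ne_zero hs)
  have hc₀ : -s₀⁻¹ ≠ (0 : F) := neg_ne_zero.2 (inv_ne_zero hs₀)
  have h1 : xg D F (D.simple i) (e + s₀⁻¹ - s⁻¹) * N₀ =
      N * xg D F (D.simple i) (s⁻¹ - s₀⁻¹ + e) := by
    rw [y_eq hD hs₀, y_eq hD hs] at h
    have h' := congrArg (fun g => (xg D F (D.simple i) s⁻¹)⁻¹ * g *
      (xg D F (D.simple i) (s₀⁻¹ - e))⁻¹) h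
    rw [show xg D F (D.simple i) (e + s₀⁻¹ - s⁻¹) = (xg D F (D.simple i) s⁻¹)⁻¹ *
        (xg D F (D.simple i) e * xg D F (D.simple i) s₀⁻¹) by
      rw [← hG.xg_add, hG.xg_inv, ← hG.xg_add]; congr 1; ring,
      show xg D F (D.simple i) (s⁻¹ - s₀⁻¹ + e) = xg D F (D.simple i) s⁻¹ *
        (xg D F (D.simple i) (s₀⁻¹ - e))⁻¹ by rw [hG.xg_inv, ← hG.xg_add]; congr 1; ring]
    rw [show xg D F (D.simple i) (s₀⁻¹ - e) = xg D F (D.simple i) s₀⁻¹ * xg D F (D.simple i) (-e) by
      rw [← hG.xg_add, sub_eq_add_neg]] at h' ⊢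
    rw [hN, hN₀]
    convert h' using 1 <;> group
  -- the positive part vanishes
  have hA : e + s₀⁻¹ - s⁻¹ = 0 := by
    by_contra hne
    have hy : N⁻¹ * xg D F (D.simple i) (e + s₀⁻¹ - s⁻¹) * N ∈ D.negUnipotent F := by
      rw [hN, hG.ng_inv, show ng D F (D.simple i) (-s⁻¹) = (ng D F (D.simple i) (-(-s⁻¹)))⁻¹ by
        rw [hG.ng_inv, _root_.neg_neg], neg_conj hD hi (neg_ne_zero.2 hc)]
      exact xg_negsimple_mem hD hi _
    have hb : N⁻¹ * xg D F (D.simple i) (e + s₀⁻¹ - s⁻¹) * N ∈ D.borelSubgroup F := by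
      rw [show N⁻¹ * xg D F (D.simple i) (e + s₀⁻¹ - s⁻¹) * N =
        N⁻¹ * (xg D F (D.simple i) (e + s₀⁻¹ - s⁻¹) * N₀) * (N₀⁻¹ * N) by group, h1,
        show N⁻¹ * (N * xg D F (D.simple i) (s⁻¹ - s₀⁻¹ + e)) =
          xg D F (D.simple i) (s⁻¹ - s₀⁻¹ + e) by group]
      refine mul_mem (Subgroup.mem_sup_left (xg_simple_mem hD hi _)) (Subgroup.mem_sup_right ?_)
      rw [hN₀, hG.ng_inv]
      exact ng_mul_ng_mem hD hi (neg_ne_zero.2 hc₀) hc
    have h2 := eq_one_of_borel_neg hD hb hy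
    rw [mul_assoc, inv_mul_eq_one, eq_comm, mul_eq_right] at h2
    exact xg_ne_one hD hp hne h2
  rw [hA, hG.xg_zero, one_mul] at h1
  -- equal squares
  have h2 : (-s₀⁻¹) * (-s₀⁻¹) = (-s⁻¹) * (-s⁻¹) := by
    have h3 := neg_conj hD hi hc₀ (1 : F)
    have hcom : Commute (xg D F (D.simple i) (s⁻¹ - s₀⁻¹ + e)) (xg D F (D.simple i) 1) := by
      show _ * _ = _ * _
      rw [← hG.xg_add, ← hG.xg_add, add_comm]
    rw [← hN₀, h1, show N * xg D F (D.simple i) (s⁻¹ - s₀⁻¹ + e) * xg D F (D.simple i) 1 *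
      (N * xg D F (D.simple i) (s⁻¹ - s₀⁻¹ + e))⁻¹ = N * (xg D F (D.simple i) (s⁻¹ - s₀⁻¹ + e) *
        xg D F (D.simple i) 1 * (xg D F (D.simple i) (s⁻¹ - s₀⁻¹ + e))⁻¹) * N⁻¹ by group,
      hcom.eq, mul_inv_cancel_right, hN, neg_conj hD hi hc] at h3
    have h4 := hG.xg_injective hn h3
    rw [mul_one] at h4
    exact inv_injective (mul_right_cancel₀ (eta_ne_zero hD i _) h4.symm)
  rcases mul_self_eq_mul_self_iff.1 h2 with h3 | h3
  · have h4 : s₀⁻¹ = s⁻¹ := neg_injective h3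
    linear_combination hA - h4
  · have h3' : N₀ = N⁻¹ := by rw [hN, hN₀, h3, hG.ng_inv]
    set B := s⁻¹ - s₀⁻¹ + e with hB
    have hxB : xg D F (D.simple i) B = N⁻¹ * N⁻¹ := by
      nth_rw 2 [← h3']; rw [h1]; group
    have h5 : N * xg D F (D.simple i) B * N⁻¹ = xg D F (D.simple i) B := by rw [hxB]; group
    rw [hN, neg_conj hD hi hc] at h5
    have h6 : B = 0 := by
      by_contra hne
      exact xg_ne_one hD hp hne
        (eq_one_of_pos_neg hD (xg_simple_mem hD hi B) (h5 ▸ xg_negsimple_mem hD hi _))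
    have h7 : s₀⁻¹ = -s⁻¹ := neg_injective h3
    rw [h7] at hA
    rw [hB, h7] at h6
    -- `4 / s = 0`, so the characteristic is two
    have h8 : (2 : F) * 2 = 0 := by
      have h9 : (2 * 2 : F) * s⁻¹ = 0 := by linear_combination h6 - hA
      exact (mul_eq_zero.1 h9).resolve_right (inv_ne_zero hs)
    have h10 : (2 : F) = 0 := mul_self_eq_zero.1 h8
    linear_combination hA + s⁻¹ * h10

/-- `n = x(a) y(b) x(a)` carries `X_i` into `X_{-i}` only for `a b = -1` -/
theorem word_eq {i : ℕ} (hi : i < D.rank) {a b s : F} (ha : a ≠ 0)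
    (h : xg D F (D.simple i) a * xg D F (D.neg (D.simple i)) b * xg D F (D.simple i) a *
      xg D F (D.simple i) 1 * (xg D F (D.simple i) a * xg D F (D.neg (D.simple i)) b *
        xg D F (D.simple i) a)⁻¹ = xg D F (D.neg (D.simple i)) s) : b = -a⁻¹ := by
  have hG := good_of_mem hD
  have hp := hG.simple_lt hi
  have hcomm : ∀ u v : F, Commute (xg D F (D.simple i) u) (xg D F (D.simple i) v) := fun u v => by
    show _ * _ = _ * _
    rw [← hG.xg_add, ← hG.xg_add, add_comm]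
  have h' : xg D F (D.simple i) a * (xg D F (D.neg (D.simple i)) b * xg D F (D.simple i) 1 *
      (xg D F (D.neg (D.simple i)) b)⁻¹) * (xg D F (D.simple i) a)⁻¹ =
      xg D F (D.neg (D.simple i)) s := by
    rw [← h]
    have e : xg D F (D.simple i) a * xg D F (D.simple i) 1 * (xg D F (D.simple i) a)⁻¹ =
        xg D F (D.simple i) 1 := by rw [(hcomm a 1).eq]; group
    conv_lhs => rw [← e]
    group
  have hb : b ≠ 0 := by
    rintro rfl
    rw [hG.xg_zero, one_mul, inv_one, mul_one, (hcomm a 1).eq, mul_inv_cancel_right] at h'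
    exact xg_ne_one hD hp one_ne_zero
      (eq_one_of_pos_neg hD (xg_simple_mem hD hi 1) (h' ▸ xg_negsimple_mem hD hi _))
  have hy : xg D F (D.neg (D.simple i)) b * xg D F (D.simple i) 1 *
      (xg D F (D.neg (D.simple i)) b)⁻¹ = xg D F (D.simple i) b⁻¹ *
        xg D F (D.neg (D.simple i)) ((-b⁻¹ * -b⁻¹)⁻¹ * ((eta D i (D.simple i) : F) * 1)) *
          xg D F (D.simple i) (-b⁻¹) := by
    rw [y_eq hD hb, ← neg_conj hD hi (neg_ne_zero.2 (inv_ne_zero hb)), ← hG.xg_inv]
    have e : xg D F (D.simple i) b⁻¹ * xg D F (D.simple i) 1 * (xg D F (D.simple i) b⁻¹)⁻¹ =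
        xg D F (D.simple i) 1 := by rw [(hcomm b⁻¹ 1).eq]; group
    conv_rhs => rw [← e]
    group
  have h2 : xg D F (D.simple i) (a + b⁻¹) *
      xg D F (D.neg (D.simple i)) ((-b⁻¹ * -b⁻¹)⁻¹ * ((eta D i (D.simple i) : F) * 1)) *
      xg D F (D.simple i) (-(a + b⁻¹)) = xg D F (D.neg (D.simple i)) s := by
    rw [← h', hy, hG.xg_inv, neg_add_rev, hG.xg_add, hG.xg_add]
    group
  have h3 := shift_eq_zero hD hi
    (mul_ne_zero (inv_ne_zero (mul_ne_zero (neg_ne_zero.2 (inv_ne_zero hb))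
      (neg_ne_zero.2 (inv_ne_zero hb)))) (mul_ne_zero (eta_ne_zero hD _ _) one_ne_zero)) h2
  rw [eq_neg_of_add_eq_zero_left h3, inv_neg, inv_inv, _root_.neg_neg]

theorem cartan_eq_zero_of_commute {i j : ℕ} (hi : i < D.rank) (hj : j < D.rank) (hne : i ≠ j)
    {t u : F} (ht0 : t = 1) (hu0 : u ≠ 0)
    (hc : Commute (xg D F (D.simple i) t) (xg D F (D.simple j) u)) :
    D.cartan i (D.simple j) = 0 := by
  subst ht0
  have hG := good_of_mem hD
  have hsj := hG.simple_lt hj
  have hn : Commute (ng D F (D.simple i) 1) (xg D F (D.simple j) u) :=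
    (hc.mul_left ((commute_xy hD hj hi (Ne.symm hne) u (-1⁻¹)).symm)).mul_left hc
  have h1 := hG.ng_conj_x hi hsj u
  rw [hn.eq, mul_inv_cancel_right] at h1
  have hlt := hG.refl_lt hi hsj
  have hrefl : D.reflectRoot i (D.simple j) = D.simple j := by
    by_contra hne'
    have h2 := congrArg (fun g => ng D F (D.simple j) 1 * g * (ng D F (D.simple j) 1)⁻¹) h1
    simp only [hG.ng_conj_x hj hsj, hG.ng_conj_x hj hlt, hG.refl_simple hj] at h2
    have hpos : 1 ≤ ht D (D.reflectRoot j (D.reflectRoot i (D.simple j))) := by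
      have := hG.refl_pos hj hlt (by have := neg_refl_of_ne hD hi hj (Ne.symm hne); omega) hne'
      omega
    exact xg_ne_one hD (hG.refl_lt hj hlt)
      (mul_ne_zero (eta_ne_zero hD _ _) (mul_ne_zero (eta_ne_zero hD _ _) hu0))
      (eq_one_of_pos_neg hD (xg_pos_mem hD (hG.refl_lt hj hlt) hpos _)
        (h2 ▸ xg_negsimple_mem hD hj _))
  have h3 := hG.coef_refl hi hsj hi
  rw [hrefl, hG.coef_simple hj hi, if_neg hne, if_pos rfl] at h3
  omega

theorem commute_of_cartan {i j : ℕ} (hi : i < D.rank) (hj : j < D.rank) (hne : i ≠ j)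
    (hA : D.cartan i (D.simple j) = 0) (t u : F) :
    Commute (xg D F (D.simple i) t) (xg D F (D.simple j) u) := by
  have hC := commGood_of_mem hD
  have hG := hC.toGood
  have hsi := hG.simple_lt hi
  have hsj := hG.simple_lt hj
  have h2 : D.simple j ≠ D.neg (D.simple i) := fun e => by
    have := congrArg (ht D) e
    rw [hG.ht_neg hsi, hG.ht_simple hi, hG.ht_simple hj] at this
    omega
  have he : wordG D F (D.commWord F (D.simple i) (D.simple j) t u) = 1 := by
    refine List.prod_eq_one fun g hg => ?_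
    obtain ⟨p, hp, rfl⟩ := List.mem_map.1 hg
    obtain ⟨c, hc, rfl⟩ := List.mem_map.1 hp
    exfalso
    obtain ⟨hc0, hc1, hc2, hc3⟩ := hG.commTerms_coef hsi hsj hc
    have hcar : D.cartan i c.1 = 2 * c.2.2.1 := by
      rw [hG.cartan_eq hc0 hi,
        Finset.sum_congr rfl fun k hk => by rw [hc3 k (Finset.mem_range.1 hk), add_mul],
        Finset.sum_add_distrib]
      rw [Finset.sum_eq_single i, Finset.sum_eq_single j]
      · rw [hG.coef_simple hi hi, hG.coef_simple hj hj, if_pos rfl, if_pos rfl, hA,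
          hG.cartan_self hi]
        ring
      · intro k hk hkj
        rw [hG.coef_simple hj (Finset.mem_range.1 hk), if_neg hkj]; ring
      · intro h; exact absurd (Finset.mem_range.2 hj) h
      · intro k hk hki
        rw [hG.coef_simple hi (Finset.mem_range.1 hk), if_neg hki]; ring
      · intro h; exact absurd (Finset.mem_range.2 hi) h
    have hlt := hG.refl_lt hi hc0
    have a1 : 0 < coef D (D.reflectRoot i c.1) j := by
      rw [hG.coef_refl hi hc0 hj, if_neg (Ne.symm hne), hc3 j hj, hG.coef_simple hi hj,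
        hG.coef_simple hj hj, if_pos rfl, if_neg (Ne.symm hne)]
      simp; omega
    have a2 := hG.coef_nonneg hlt (hG.ht_pos_of_coef hlt hj a1) hi
    rw [hG.coef_refl hi hc0 hi, if_pos rfl, hcar, hc3 i hi, hG.coef_simple hi hi,
      hG.coef_simple hj hi, if_pos rfl, if_neg hne] at a2
    simp at a2; omega
  have := hC.xg_comm hsi hsj (fun e => hne (hG.simple_inj hj hi e).symm) h2 t u
  rw [he, mul_one] at this
  exact this.symm

end Cfsg.Agent.ChevAut
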