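/-
The normal form of an automorphism on the fundamental root elements and their negatives.
-/
import Cfsg.Agent.ChevAut.RankOne

set_option autoImplicit false

namespace Cfsg.Agent.ChevAut

open Cfsg.Lie Cfsg.Agent.ChevCore

variable {D : ChevalleyDatum} {F : Type*} [Field F]

/-- `φ` maps `x_{±i}(t)` to `x_{±π i}(a_i^{±1} σ_i(t))` -/
def Form (φ : MulAut ↥(D.group F)) (π : Equiv.Perm (Fin D.rank)) (σ : Fin D.rank → (F ≃+* F))
    (a : Fin D.rank → Fˣ) : Prop :=
  ∀ (i : Fin D.rank) (g : ↥(D.group F)) (t : F),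
    ((g : GL D.Idx F) = xg D F (D.simple i) t → ((φ g : ↥(D.group F)) : GL D.Idx F) =
      xg D F (D.simple (π i)) ((a i : F) * σ i t)) ∧
    ((g : GL D.Idx F) = xg D F (D.neg (D.simple i)) t → ((φ g : ↥(D.group F)) : GL D.Idx F) =
      xg D F (D.neg (D.simple (π i))) ((((a i)⁻¹ : Fˣ) : F) * σ i t))

/-- the Cartan integer of two fundamental roots -/
def cA (D : ChevalleyDatum) (i j : Fin D.rank) : ℤ := D.cartan i.val (D.simple j.val)

variable (hD : Seven D)

include hD

theorem exists_form [Fintype F] {φ : MulAut ↥(D.group F)} (h : Normalised φ) :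
    ∃ (π : Equiv.Perm (Fin D.rank)) (σ : Fin D.rank → (F ≃+* F)) (a : Fin D.rank → Fˣ),
      Form φ π σ a ∧ (∀ i j, i ≠ j → cA D i j = 0 → cA D (π i) (π j) = 0) ∧
      ∀ i j (c : F), c ≠ 0 → σ j c ^ cA D i j = σ i c ^ cA D (π i) (π j) := by
  classical
  have hG := good_of_mem hD
  obtain ⟨π, hπ⟩ := exists_perm hD h
  let X : Fin D.rank → F → ↥(D.group F) := fun i t => ⟨xg D F (D.simple i) t, hG.xg_mem_group _ _⟩
  let Y : Fin D.rank → F → ↥(D.group F) := fun i t =>
    ⟨xg D F (D.neg (D.simple i)) t, hG.xg_mem_group _ _⟩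
  choose f hf using fun i t => ((hπ i (X i t)).1).1 ⟨t, rfl⟩
  choose g hgy using fun i t => ((hπ i (Y i t)).2).1 ⟨t, rfl⟩
  have hfX : ∀ i t, φ (X i t) = X (π i) (f i t) := fun i t => Subtype.ext (hf i t)
  have hgY : ∀ i t, φ (Y i t) = Y (π i) (g i t) := fun i t => Subtype.ext (hgy i t)
  have hXinj : ∀ i, Function.Injective (X i) := fun i a b e =>
    hG.xg_injective (hG.simple_lt i.isLt) (congrArg Subtype.val e)
  have hYinj : ∀ i, Function.Injective (Y i) := fun i a b e =>
    hG.xg_injective (hG.neg_lt (hG.simple_lt i.isLt)) (congrArg Subtype.val e)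
  have hXadd : ∀ i a b, X i (a + b) = X i a * X i b := fun i a b => Subtype.ext (hG.xg_add _ a b)
  have hfadd : ∀ i a b, f i (a + b) = f i a + f i b := fun i a b => hXinj (π i) (by
    rw [← hfX, hXadd, map_mul, hfX, hfX, ← hXadd])
  have hfinj : ∀ i, Function.Injective (f i) := fun i a b e => hXinj i (φ.injective (by
    rw [hfX, hfX, e]))
  have hf0 : ∀ i, f i 0 = 0 := fun i => by
    have := hfadd i 0 0; rw [add_zero] at this; exact left_eq_add.1 this
  have hfne : ∀ i c, c ≠ 0 → f i c ≠ 0 := fun i c hc e => hc (hfinj i (by rw [e, hf0]))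
  -- the negative function
  have hg0 : ∀ i, g i 0 = 0 := fun i => by
    have hY0 : ∀ k, Y k 0 = 1 := fun k => Subtype.ext (hG.xg_zero _)
    refine hYinj (π i) ?_
    rw [← hgY, hY0, hY0, map_one]
  have hgf : ∀ i c, c ≠ 0 → g i (-c⁻¹) = -(f i c)⁻¹ := by
    intro i c hc
    let N : ↥(D.group F) := X i c * Y i (-c⁻¹) * X i c
    have hN : (N : GL D.Idx F) = ng D F (D.simple i) c := rfl
    have hconj : N * X i 1 * N⁻¹ =
        Y i ((c * c)⁻¹ * ((eta D i.val (D.simple i) : F) * 1)) := Subtype.ext (neg_conj hD i.isLt hc 1)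
    have hex : ∀ u, ∃ s, (((φ N * X (π i) u * (φ N)⁻¹) : ↥(D.group F)) : GL D.Idx F) =
        xg D F (D.neg (D.simple (π i))) s := by
      intro u
      obtain ⟨t, ht⟩ := (hπ i (φ.symm (X (π i) u))).1.2 ⟨u, by rw [φ.apply_symm_apply]⟩
      have e : φ.symm (X (π i) u) = X i t := Subtype.ext ht
      refine ((hπ i (N * φ.symm (X (π i) u) * N⁻¹)).2).1 ?_ |>.imp fun s hs => ?_
      · rw [e]; exact ⟨_, neg_conj hD i.isLt hc t⟩
      · simpa using hs
    obtain ⟨s, hs⟩ := hex 1
    have hφN : φ N = X (π i) (f i c) * Y (π i) (g i (-c⁻¹)) * X (π i) (f i c) := by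
      simp only [N, map_mul, hfX, hgY]
    rw [hφN] at hs
    exact word_eq hD (π i).isLt (hfne i c hc) hs
  -- the torus relation
  have hrel : ∀ i j (c t : F), c ≠ 0 →
      f j (c ^ cA D i j * t) = (f i c / f i 1) ^ cA D (π i) (π j) * f j t := by
    intro i j c t hc
    let N : F → ↥(D.group F) := fun c => X i c * Y i (-c⁻¹) * X i c
    let N' : F → ↥(D.group F) := fun c => X (π i) c * Y (π i) (-c⁻¹) * X (π i) c
    have hN : ∀ c, c ≠ 0 → φ (N c) = N' (f i c) := fun c hc => by
      simp only [N, N', map_mul, hfX, hgY, hgf i c hc]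
    have hfneg : f i (-1) = -f i 1 := by
      have := hfadd i (-1) 1
      rw [neg_add_cancel, hf0] at this
      exact eq_neg_of_add_eq_zero_left this.symm
    have hh : φ (N c * N (-1)) = N' (f i c) * N' (-f i 1) := by
      rw [map_mul, hN c hc, hN (-1) (neg_ne_zero.2 one_ne_zero), hfneg]
    have hi := hG.simple_lt (π i).isLt
    have hjl := hG.simple_lt (π j).isLt
    have e1 : N c * N (-1) * X j t * (N c * N (-1))⁻¹ = X j (c ^ cA D i j * t) := by
      refine Subtype.ext ?_
      show hg D F (D.simple i) c * xg D F (D.simple j) t * (hg D F (D.simple i) c)⁻¹ = _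
      rw [hG.hg_conj_x (hG.simple_lt i.isLt) (hG.simple_lt j.isLt) hc, hG.pairing_simple i.isLt]
      rfl
    have e2 := congrArg φ e1
    rw [map_mul, map_mul, map_inv, hh, hfX, hfX] at e2
    have e3 := congrArg Subtype.val e2
    have hH : ((N' (f i c) * N' (-f i 1) : ↥(D.group F)) : GL D.Idx F) =
        hg D F (D.simple (π i)) (f i c) * (hg D F (D.simple (π i)) (f i 1))⁻¹ := by
      show ng D F (D.simple (π i)) (f i c) * ng D F (D.simple (π i)) (-f i 1) = _
      simp only [ChevCore.hg, ← hG.ng_inv]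
      group
    rw [Subgroup.coe_mul, Subgroup.coe_mul, Subgroup.coe_inv, hH] at e3
    have h4 : (hg D F (D.simple (π i)) (f i 1))⁻¹ * xg D F (D.simple (π j)) (f j t) *
        hg D F (D.simple (π i)) (f i 1) =
        xg D F (D.simple (π j)) ((f i 1 ^ cA D (π i) (π j))⁻¹ * f j t) := by
      have h5 := hG.hg_conj_x hi hjl (hfne i 1 one_ne_zero)
        ((f i 1 ^ cA D (π i) (π j))⁻¹ * f j t)
      rw [hG.pairing_simple (π i).isLt, show D.cartan (π i).val (D.simple (π j).val) =
        cA D (π i) (π j) from rfl, mul_inv_cancel_left₀ (zpow_ne_zero _ (hfne i 1 one_ne_zero))] at h5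
      rw [← h5]; group
    have h5 : hg D F (D.simple (π i)) (f i c) *
        xg D F (D.simple (π j)) ((f i 1 ^ cA D (π i) (π j))⁻¹ * f j t) *
        (hg D F (D.simple (π i)) (f i c))⁻¹ = xg D F (D.simple (π j)) (f j (c ^ cA D i j * t)) := by
      rw [← h4]
      refine Eq.trans ?_ e3
      show _ = _ * xg D F (D.simple (π j)) (f j t) * _
      group
    rw [hG.hg_conj_x hi hjl (hfne i c hc), hG.pairing_simple (π i).isLt] at h5
    rw [← hG.xg_injective hjl h5, div_zpow, div_eq_mul_inv, mul_assoc]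
    rfl
  -- the field automorphisms
  let s : Fin D.rank → F → F := fun i t => f i t / f i 1
  have hs1 : ∀ i, s i 1 = 1 := fun i => div_self (hfne i 1 one_ne_zero)
  have hsadd : ∀ i a b, s i (a + b) = s i a + s i b := fun i a b => by
    simp only [s, hfadd, add_div]
  have hscale : ∀ i (c t : F), c ≠ 0 → s i (c ^ 2 * t) = s i c ^ 2 * s i t := by
    intro i c t hc
    have h1 := hrel i i c t hc
    have hA : cA D i i = 2 := hG.cartan_self i.isLt
    have hA' : cA D (π i) (π i) = 2 := hG.cartan_self (π i).isLt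
    rw [hA, hA'] at h1
    have h2 : f i (c ^ 2 * t) = (f i c / f i 1) ^ 2 * f i t := by
      exact_mod_cast h1
    simp only [s, h2]
    ring
  have hs0 : ∀ i, s i 0 = 0 := fun i => by simp [s, hf0]
  have hsq : ∀ i c, s i (c ^ 2) = s i c ^ 2 := by
    intro i c
    rcases eq_or_ne c 0 with rfl | hc
    · simp [hs0]
    · have := hscale i c 1 hc
      rwa [mul_one, hs1, mul_one] at this
  have hsinj : ∀ i, Function.Injective (s i) := fun i a b e => hfinj i (by
    simpa [s, div_left_inj' (hfne i 1 one_ne_zero)] using e)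
  have hmul : ∀ i a b, s i (a * b) = s i a * s i b := by
    intro i a b
    rcases eq_or_ne a 0 with rfl | ha
    · simp [hs0]
    by_cases h2 : (2 : F) = 0
    · obtain ⟨d, rfl⟩ : ∃ d, d ^ 2 = b := by
        have hinj : Function.Injective (fun x : F => x ^ 2) := fun x y e => by
          have : (x - y) ^ 2 = 0 := by
            simp only at e
            linear_combination e + (y * y - x * y) * h2
          exact sub_eq_zero.1 (pow_eq_zero_iff two_ne_zero |>.1 this)
        exact Finite.surjective_of_injective hinj b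
      obtain ⟨e, rfl⟩ : ∃ e, e ^ 2 = a := by
        have hinj : Function.Injective (fun x : F => x ^ 2) := fun x y e => by
          have : (x - y) ^ 2 = 0 := by
            simp only at e
            linear_combination e + (y * y - x * y) * h2
          exact sub_eq_zero.1 (pow_eq_zero_iff two_ne_zero |>.1 this)
        exact Finite.surjective_of_injective hinj a
      have he : e ≠ 0 := fun h0 => ha (by simp [h0])
      rw [hscale i e _ he, hsq i e]
    · have h1 : s i ((a + b) ^ 2) = (s i a + s i b) ^ 2 := by rw [hsq, hsadd]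
      rw [show (a + b) ^ 2 = a ^ 2 + (a * b + a * b) + b ^ 2 by ring, hsadd, hsadd, hsadd, hsq, hsq]
        at h1
      exact mul_left_cancel₀ h2 (by linear_combination h1)
  let σ : Fin D.rank → (F ≃+* F) := fun i =>
    RingEquiv.ofBijective
      ({ toFun := s i, map_one' := hs1 i, map_mul' := hmul i, map_zero' := hs0 i,
         map_add' := hsadd i } : F →+* F)
      ⟨hsinj i, Finite.surjective_of_injective (hsinj i)⟩
  have hσ : ∀ i t, σ i t = f i t / f i 1 := fun i t => rfl
  refine ⟨π, σ, fun i => Units.mk0 (f i 1) (hfne i 1 one_ne_zero), fun i x t => ⟨?_, ?_⟩, ?_, ?_⟩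
  · intro hx
    rw [show x = X i t from Subtype.ext hx, hfX, Units.val_mk0, hσ,
      mul_div_cancel₀ _ (hfne i 1 one_ne_zero)]
  · intro hx
    rw [show x = Y i t from Subtype.ext hx, hgY]
    refine congrArg (xg D F _) ?_
    rcases eq_or_ne t 0 with rfl | ht0
    · rw [hg0, map_zero, mul_zero]
    · have h1 := hgf i (-t⁻¹) (neg_ne_zero.2 (inv_ne_zero ht0))
      rw [inv_neg, inv_inv, _root_.neg_neg] at h1
      have h2 : f i (-t⁻¹) = -(f i 1 * (σ i t)⁻¹) := by
        rw [← map_inv₀, hσ, mul_div_cancel₀ _ (hfne i 1 one_ne_zero)]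
        have := hfadd i (-t⁻¹) t⁻¹
        rw [neg_add_cancel, hf0] at this
        exact eq_neg_of_add_eq_zero_left this.symm
      rw [h1, h2, Units.val_inv_eq_inv_val, Units.val_mk0, inv_neg, _root_.neg_neg, mul_inv,
        inv_inv]
  · intro i j hne hA
    refine cartan_eq_zero_of_commute (F := F) (t := (1 : F)) (u := (1 : F)) hD (π i).isLt (π j).isLt
      (fun e => hne (π.injective (Fin.ext e))) rfl one_ne_zero ?_
    obtain ⟨t, ht⟩ : ∃ t, f i t = 1 :=
      Finite.surjective_of_injective (hfinj i) 1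
    obtain ⟨u, hu⟩ : ∃ u, f j u = 1 :=
      Finite.surjective_of_injective (hfinj j) 1
    have hc : Commute (X i t) (X j u) := Subtype.ext
      (commute_of_cartan hD i.isLt j.isLt (fun e => hne (Fin.ext e)) hA t u).eq
    have h2 := hc.map φ.toMonoidHom
    simp only [MulEquiv.toMonoidHom_eq_coe, MonoidHom.coe_coe, hfX, ht, hu] at h2
    exact h2.map (D.group F).subtype
  · intro i j c hc
    have h1 := hrel i j c 1 hc
    rw [mul_one] at h1
    rw [← map_zpow₀, hσ j (c ^ cA D i j), h1, hσ i c,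
      mul_div_cancel_right₀ _ (hfne j 1 one_ne_zero)]

end Cfsg.Agent.ChevAut
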