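/-
Diagonal, field and inner automorphisms in normal form; uniqueness of the normal form.
-/
import Cfsg.Agent.ChevAut.Form
import Cfsg.Agent.S1080

set_option autoImplicit false

namespace Cfsg.Agent.ChevAut

open Cfsg.Lie Cfsg.Agent.ChevCore

variable {D : ChevalleyDatum} {F : Type*} [Field F]

/-- `φ` maps every root element to a root element -/
def RootMap (φ : MulAut ↥(D.group F)) (ρ : ℕ → ℕ) (s : ℕ → F → F) : Prop :=
  ∀ r < D.nroots, ∀ (g : ↥(D.group F)) (t : F), (g : GL D.Idx F) = xg D F r t →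
    ((φ g : ↥(D.group F)) : GL D.Idx F) = xg D F (ρ r) (s r t)

variable (hD : Seven D)

include hD

theorem normalised_of_rootMap [Fintype F] {φ : MulAut ↥(D.group F)} {ρ : ℕ → ℕ} {s : ℕ → F → F}
    (h : RootMap φ ρ s) (hlt : ∀ r < D.nroots, ρ r < D.nroots)
    (hpos : ∀ r < D.nroots, 1 ≤ ht D r → 1 ≤ ht D (ρ r))
    (hneg : ∀ r < D.nroots, ht D r ≤ -1 → ht D (ρ r) ≤ -1) : Normalised φ := by
  classical
  have hG := good_of_mem hD
  haveI : Finite ↥(D.group F) := inferInstance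
  have key : ∀ S : Set ℕ, (∀ r < D.nroots, r ∈ S → ρ r ∈ S) → ∀ K : Subgroup ↥(D.group F),
      K = (XS D F S).subgroupOf (D.group F) → K.map φ.toMonoidHom = K := by
    rintro S hS K rfl
    refine Subgroup.eq_of_le_of_card_ge ?_
      (le_of_eq (Nat.card_congr (Subgroup.equivMapOfInjective _ φ.toMonoidHom φ.injective).toEquiv))
    rintro _ ⟨g, hg, rfl⟩
    have hle : XS D F S ≤ D.group F := by
      rw [hG.group_eq]; exact XS_mono (Set.subset_univ _)
    let P : Subgroup (GL D.Idx F) := (((XS D F S).subgroupOf (D.group F)).comap φ.toMonoidHom).map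
      (D.group F).subtype
    have hP : XS D F S ≤ P := XS_le fun r t hr hrS => by
      refine ⟨⟨xg D F r t, hG.xg_mem_group r t⟩, ?_, rfl⟩
      show ((φ _ : ↥(D.group F)) : GL D.Idx F) ∈ XS D F S
      rw [h r hr _ t rfl]
      exact xg_mem_XS (hlt r hr) (hS r hr hrS) _
    obtain ⟨g', hg', e⟩ := hP hg
    rwa [Subtype.ext e] at hg'
  refine normalised_of_map (key (htGe D 1) hpos _ ?_) (key {r | ht D r ≤ -1} hneg _ ?_)
  · rw [gU, hG.posUnipotent_eq]
  · rw [gV, hG.negUnipotent_eq]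

/-- the root elements of the fundamental roots and their negatives generate -/
theorem ext_of_simple {φ ψ : MulAut ↥(D.group F)}
    (h : ∀ (i : Fin D.rank) (g : ↥(D.group F)) (t : F),
      ((g : GL D.Idx F) = xg D F (D.simple i) t ∨ (g : GL D.Idx F) = xg D F (D.neg (D.simple i)) t) →
      φ g = ψ g) : φ = ψ := by
  have hC := commGood_of_mem hD
  have hG := hC.toGood
  let K : Subgroup (GL D.Idx F) :=
    (φ.toMonoidHom.eqLocus ψ.toMonoidHom).map (D.group F).subtype
  have hy : ∀ (p : ℕ) (i : Fin D.rank), p = D.simple i ∨ p = D.neg (D.simple i) → ∀ t,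
      xg D F p t ∈ K := fun p i hp t => by
    refine ⟨⟨xg D F p t, hG.xg_mem_group _ _⟩, h i _ t ?_, rfl⟩
    rcases hp with rfl | rfl
    · exact Or.inl rfl
    · exact Or.inr rfl
  have hn : ∀ i < D.rank, ng D F (D.simple i) 1 ∈ K := fun i hi =>
    mul_mem (mul_mem (hy _ ⟨i, hi⟩ (Or.inl rfl) _) (hy _ ⟨i, hi⟩ (Or.inr rfl) _))
      (hy _ ⟨i, hi⟩ (Or.inl rfl) _)
  have hle : D.group F ≤ K := by
    rw [hG.group_eq]
    refine XS_le fun r t hr _ => ?_
    obtain ⟨w, hw, i, hi, rfl⟩ := hG.exists_word hr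
    have hnw : nw D F w ∈ K := list_prod_mem fun y hy' => by
      obtain ⟨j, hj, rfl⟩ := List.mem_map.1 hy'
      exact hn j (hw j hj)
    have h1 := mul_mem (mul_mem hnw
      (hy _ ⟨i, hi⟩ (Or.inl rfl) ((etaWord D w (D.simple i) : F) * t))) (inv_mem hnw)
    rwa [hG.nw_conj_x hw (hG.simple_lt hi), ← mul_assoc, ← Int.cast_mul, Good.etaWord_sq,
      Int.cast_one, one_mul] at h1
  refine MulEquiv.ext fun g => ?_
  obtain ⟨g', hg', e⟩ := hle g.2
  rw [← Subtype.ext e]
  exact hg'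

theorem Form.unique {φ ψ : MulAut ↥(D.group F)} {π : Equiv.Perm (Fin D.rank)}
    {σ : Fin D.rank → (F ≃+* F)} {a : Fin D.rank → Fˣ} (h : Form φ π σ a) (h' : Form ψ π σ a) :
    φ = ψ :=
  ext_of_simple hD fun i g t hg => Subtype.ext (by
    rcases hg with hg | hg
    · rw [(h i g t).1 hg, (h' i g t).1 hg]
    · rw [(h i g t).2 hg, (h' i g t).2 hg])

/-- the data of a normal form are determined by the automorphism -/
theorem Form.inj {φ : MulAut ↥(D.group F)} {π π' : Equiv.Perm (Fin D.rank)}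
    {σ σ' : Fin D.rank → (F ≃+* F)} {a a' : Fin D.rank → Fˣ} (h : Form φ π σ a)
    (h' : Form φ π' σ' a') : π = π' ∧ σ = σ' ∧ a = a' := by
  have hG := good_of_mem hD
  have e : ∀ i t, xg D F (D.simple (π i)) ((a i : F) * σ i t) =
      xg D F (D.simple (π' i)) ((a' i : F) * σ' i t) := fun i t => by
    rw [← (h i ⟨_, hG.xg_mem_group _ _⟩ t).1 rfl, ← (h' i ⟨_, hG.xg_mem_group _ _⟩ t).1 rfl]
  have hπ : π = π' := Equiv.ext fun i => Fin.ext (simple_x_inj hD (π' i).isLt (π i).isLt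
    (mul_ne_zero (a i).ne_zero (by simp)) (e i 1))
  subst hπ
  have e' : ∀ i t, (a i : F) * σ i t = (a' i : F) * σ' i t := fun i t =>
    hG.xg_injective (hG.simple_lt (π i).isLt) (e i t)
  have ha : a = a' := funext fun i => Units.ext (by simpa using e' i 1)
  subst ha
  exact ⟨rfl, funext fun i => RingEquiv.ext fun t => mul_left_cancel₀ (a i).ne_zero (e' i t), rfl⟩

/-- composites of normal forms -/
theorem Form.trans {φ ψ : MulAut ↥(D.group F)} {π π' : Equiv.Perm (Fin D.rank)}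
    {σ σ' : Fin D.rank → (F ≃+* F)} {a a' : Fin D.rank → Fˣ} (h : Form φ π σ a)
    (h' : Form ψ π' σ' a') :
    Form (φ.trans ψ) (π.trans π') (fun i => (σ i).trans (σ' (π i)))
      (fun i => a' (π i) * Units.map (σ' (π i)).toMonoidHom (a i)) := by
  intro i g t
  constructor <;> intro hg
  · refine ((h' (π i) (φ g) _).1 ((h i g t).1 hg)).trans (congrArg (xg D F _) ?_)
    simp [mul_assoc]
  · refine ((h' (π i) (φ g) _).2 ((h i g t).2 hg)).trans (congrArg (xg D F _) ?_)
    simp only [Units.val_inv_eq_inv_val, Units.val_mul, mul_inv, map_mul, map_inv₀]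
    simp [mul_assoc, mul_left_comm, mul_comm]

theorem Normalised.trans {φ ψ : MulAut ↥(D.group F)} (h : Normalised φ) (h' : Normalised ψ) :
    Normalised (φ.trans ψ) :=
  ⟨fun x => by simp [h'.1, h.1], fun x => by simp [h'.2, h.2]⟩

/-- diagonal automorphisms with prescribed values on the fundamental roots -/
theorem exists_diag [Fintype F] (a : Fin D.rank → Fˣ) : ∃ φ : MulAut ↥(D.group F),
    RootMap φ id (fun r t => (∏ i : Fin D.rank, (a i : F) ^ coef D r i.val) * t) ∧
      Normalised φ ∧ Form φ 1 (fun _ => RingEquiv.refl F) a := by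
  classical
  have hG := good_of_mem hD
  let w : (Fin D.rank → Fˣ) → D.Idx → Fˣ := fun a x => ∏ i : Fin D.rank, a i ^ wc D i.val x
  let δ : (Fin D.rank → Fˣ) → GL D.Idx F := fun a =>
    Units.map (Matrix.diagonalRingHom D.Idx F).toMonoidHom (MulEquiv.piUnits.symm (w a))
  have hδ : ∀ (a : Fin D.rank → Fˣ) r, r < D.nroots → ∀ t,
      δ a * xg D F r t * (δ a)⁻¹ = xg D F r ((∏ i : Fin D.rank, (a i : F) ^ coef D r i.val) * t) := by
    intro a r hr t
    rw [mul_inv_eq_iff_eq_mul]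
    refine Units.ext ?_
    rw [Units.val_mul, Units.val_mul, hG.val_xg, hG.val_xg, hG.x_eq F hr, hG.x_eq F hr]
    show Matrix.diagonal (fun x => (w a x : F)) * _ = _ * Matrix.diagonal (fun x => (w a x : F))
    have hw : IsWeight D (fun x => (w a x : F))
        (fun r => ∏ i : Fin D.rank, (a i : F) ^ coef D r i.val) := by
      intro k r hk _ hr x y hM
      simp only [w, Units.coe_prod, Units.val_zpow_eq_zpow_val]
      rw [← Finset.prod_pow, ← Finset.prod_mul_distrib]
      refine Finset.prod_congr rfl fun i _ => ?_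
      rw [hG.M_homog hr hk hM i.isLt, zpow_add₀ (a i).ne_zero]
      congr 1
      rw [mul_comm, _root_.zpow_mul, zpow_natCast]
    exact hw.conj hr t
  have hinv : ∀ a, δ a⁻¹ = (δ a)⁻¹ := fun a => by
    simp only [δ, ← map_inv]
    congr 2
    funext x
    simp [w, Finset.prod_inv_distrib]
  have hmem : ∀ a, ∀ g ∈ D.group F, δ a * g * (δ a)⁻¹ ∈ D.group F := fun a => by
    have hle : D.group F ≤ (D.group F).comap (MulAut.conj (δ a) : GL D.Idx F ≃* GL D.Idx F).toMonoidHom := by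
      conv_lhs => rw [hG.group_eq]
      refine XS_le fun r t hr _ => ?_
      show δ a * xg D F r t * (δ a)⁻¹ ∈ D.group F
      rw [hδ a r hr]
      exact hG.xg_mem_group _ _
    exact fun g hg => hle hg
  let φ : MulAut ↥(D.group F) :=
  { toFun := fun g => ⟨δ a * g * (δ a)⁻¹, hmem a g g.2⟩
    invFun := fun g => ⟨(δ a)⁻¹ * g * δ a, by simpa [hinv] using hmem a⁻¹ g g.2⟩
    left_inv := fun g => Subtype.ext (by simp [mul_assoc])
    right_inv := fun g => Subtype.ext (by simp [mul_assoc])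
    map_mul' := fun g h => Subtype.ext (by simp [mul_assoc]) }
  have hmap : RootMap φ id (fun r t => (∏ i : Fin D.rank, (a i : F) ^ coef D r i.val) * t) := by
    intro r hr g t hg
    show δ a * (g : GL D.Idx F) * (δ a)⁻¹ = _
    rw [hg, hδ a r hr]; rfl
  have hval : ∀ i : Fin D.rank, (∏ k : Fin D.rank, (a k : F) ^ coef D (D.simple i) k.val) = a i := by
    intro i
    rw [Finset.prod_eq_single i]
    · rw [hG.coef_simple i.isLt i.isLt, if_pos rfl, zpow_one]
    · intro k _ hk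
      rw [hG.coef_simple i.isLt k.isLt, if_neg fun e => hk (Fin.ext e), zpow_zero]
    · simp
  refine ⟨φ, hmap, normalised_of_rootMap hD hmap (fun r h => h) (fun r _ h => h) (fun r _ h => h),
    fun i g t => ⟨fun hg => ?_, fun hg => ?_⟩⟩
  · rw [hmap _ (hG.simple_lt i.isLt) g t hg]; simp only [id, hval]; rfl
  · rw [hmap _ (hG.neg_lt (hG.simple_lt i.isLt)) g t hg]
    refine congrArg (xg D F _) ?_
    simp only [hG.coef_neg (hG.simple_lt i.isLt) (Fin.isLt _), _root_.zpow_neg,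
      Finset.prod_inv_distrib, hval]
    simp

/-- field automorphisms -/
theorem exists_field [Fintype F] (σ : F ≃+* F) : ∃ φ : MulAut ↥(D.group F),
    RootMap φ id (fun _ t => σ t) ∧ Normalised φ ∧ Form φ 1 (fun _ => σ) 1 := by
  have hG := good_of_mem hD
  obtain ⟨φ, hφ⟩ := Cfsg.Agent.S1080.result D hD σ
  have hmap : RootMap φ id (fun _ t => σ t) := by
    intro r hr g t hg
    refine Units.ext ?_
    rw [hG.val_xg]
    exact hφ g r t hr (by rw [hg, hG.val_xg])
  refine ⟨φ, hmap, normalised_of_rootMap hD hmap (fun r h => h) (fun r _ h => h) (fun r _ h => h),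
    fun i g t => ⟨fun hg => ?_, fun hg => ?_⟩⟩
  · rw [hmap _ (hG.simple_lt i.isLt) g t hg]; simp
  · rw [hmap _ (hG.neg_lt (hG.simple_lt i.isLt)) g t hg]; simp

/-- elements normalising `U` and `V` are diagonal -/
theorem mem_gH_of_normalised [Fintype F] {g : ↥(D.group F)} (h : Normalised (MulAut.conj g)) :
    g ∈ gH D F := by
  have hG := good_of_mem hD
  have hb : g ∈ gB D F := mem_gB_of_normal hD fun u hu => (h.1 u).2 hu
  obtain ⟨u, hu, k, hk, e⟩ := hG.mem_borel hb
  have e' : u * k = (g : GL D.Idx F) := e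
  obtain ⟨v, hv, hneg⟩ := exists_longest hD
  let uG : ↥(D.group F) := ⟨u, hG.posUnipotent_le_group hu⟩
  let n : ↥(D.group F) := ⟨nw D F v, hG.monomialSubgroup_le_group (hG.nw_mem_N hv)⟩
  have hflip := flip_iff hD hv hneg n rfl
  have hVu : ∀ x ∈ gV D F, uG * x * uG⁻¹ ∈ gV D F := by
    intro x hx
    let kG : ↥(D.group F) := ⟨k, hG.diagonalSubgroup_le_group hk⟩
    have h1 : kG⁻¹ * x * kG⁻¹⁻¹ ∈ gV D F := conj_neg_of_diag hD (inv_mem hk) hx
    have h2 : MulAut.conj g (kG⁻¹ * x * kG⁻¹⁻¹) ∈ gV D F := (h.2 _).2 h1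
    have hg : g = uG * kG := Subtype.ext e'.symm
    rw [MulAut.conj_apply, hg] at h2
    simpa [mul_assoc] using h2
  have h3 : n * uG * n⁻¹ ∈ gB D F := by
    refine mem_gB_of_normal hD fun x hx => ?_
    obtain ⟨y, hy, rfl⟩ : ∃ y ∈ gV D F, n * y * n⁻¹ = x :=
      ⟨n⁻¹ * x * n, by rw [← (hflip _).2]; simpa [mul_assoc] using hx, by group⟩
    have := (hflip _).2.2 (hVu y hy)
    simpa [mul_assoc] using this
  have h4 : n * uG * n⁻¹ ∈ gV D F := (hflip uG).1.2 hu
  have h5 : n * uG * n⁻¹ = 1 := Subtype.ext (eq_one_of_borel_neg hD h3 h4)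
  have h6 : u = 1 := congrArg Subtype.val (conj_eq_one_iff.1 h5)
  show (g : GL D.Idx F) ∈ D.diagonalSubgroup F
  rw [← e', h6, one_mul]; exact hk

/-- inner automorphisms by diagonal elements -/
theorem exists_inner_form {g : ↥(D.group F)} (hg : g ∈ gH D F) :
    ∃ c : Fin D.rank → Fˣ,
      Form (MulAut.conj g) 1 (fun _ => RingEquiv.refl F) (mpow (cartanT D) c) := by
  have hG := good_of_mem hD
  have hg' : (g : GL D.Idx F) ∈ (tau D F).range := hG.diagonalSubgroup_eq_range (F := F) ▸ (show (g : GL D.Idx F) ∈ D.diagonalSubgroup F from hg)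
  obtain ⟨c, hc⟩ := hg'
  refine ⟨c, fun i x t => ⟨fun hx => ?_, fun hx => ?_⟩⟩
  · show (g : GL D.Idx F) * (x : GL D.Idx F) * (g : GL D.Idx F)⁻¹ = _
    rw [hx, ← hc, hG.tau_conj_x c (hG.simple_lt i.isLt)]
    refine congrArg (xg D F _) ?_
    simp [tauW, mpow_apply, cartanT, Units.coe_prod]
  · show (g : GL D.Idx F) * (x : GL D.Idx F) * (g : GL D.Idx F)⁻¹ = _
    rw [hx, ← hc, hG.tau_conj_x c (hG.neg_lt (hG.simple_lt i.isLt))]
    refine congrArg (xg D F _) ?_
    simp [tauW, mpow_apply, cartanT, hG.cartan_neg (hG.simple_lt i.isLt), Units.coe_prod,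
      Finset.prod_inv_distrib]

theorem exists_inner_of_mpow (c : Fin D.rank → Fˣ) : ∃ g : ↥(D.group F),
    Form (MulAut.conj g) 1 (fun _ => RingEquiv.refl F) (mpow (cartanT D) c) := by
  have hG := good_of_mem hD
  have hc : tau D F c ∈ D.diagonalSubgroup F := by
    rw [hG.diagonalSubgroup_eq_range]; exact ⟨c, rfl⟩
  refine ⟨⟨tau D F c, hG.diagonalSubgroup_le_group hc⟩, fun i x t => ⟨fun hx => ?_, fun hx => ?_⟩⟩
  · show tau D F c * (x : GL D.Idx F) * (tau D F c)⁻¹ = _
    rw [hx, hG.tau_conj_x c (hG.simple_lt i.isLt)]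
    refine congrArg (xg D F _) ?_
    simp [tauW, mpow_apply, cartanT, Units.coe_prod]
  · show tau D F c * (x : GL D.Idx F) * (tau D F c)⁻¹ = _
    rw [hx, hG.tau_conj_x c (hG.neg_lt (hG.simple_lt i.isLt))]
    refine congrArg (xg D F _) ?_
    simp [tauW, mpow_apply, cartanT, hG.cartan_neg (hG.simple_lt i.isLt), Units.coe_prod,
      Finset.prod_inv_distrib]

end Cfsg.Agent.ChevAut
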