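/-
Every automorphism is inner, diagonal, field and graph; the order of the outer automorphism group.
-/
import Cfsg.Agent.ChevAut.Std
import Cfsg.Prelude.Def_KGroupFacts

set_option autoImplicit false

namespace Cfsg.Agent.ChevAut

open Cfsg.Lie Cfsg.Agent.ChevCore

variable {D : ChevalleyDatum} {F : Type*} [Field F]

/-- the fundamental roots reached in `m` steps along Cartan integers `-1` -/
def reachL (D : ChevalleyDatum) : ℕ → List (Fin D.rank)
  | 0 => (List.finRange D.rank).filter fun j => decide (j.val = 0)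
  | m + 1 =>
    let L := reachL D m
    (List.finRange D.rank).filter fun j =>
      L.contains j || L.any fun i => decide (cA D i j = -1) || decide (cA D j i = -1)

/-- the diagram is connected along Cartan integers `-1` -/
def connB (D : ChevalleyDatum) : Bool :=
  (List.finRange D.rank).all fun j => (reachL D D.rank).contains j

variable (hD : Seven D)

include hD

theorem const_of_id (hc : connB D = true) {σ : Fin D.rank → (F ≃+* F)}
    (hrel : ∀ i j (c : F), c ≠ 0 → σ j c ^ cA D i j = σ i c ^ cA D i j) :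
    ∀ i, σ i = σ ⟨0, (good_of_mem hD).rank_pos⟩ := by
  have hstep : ∀ i j, cA D i j = -1 → σ j = σ i := fun i j h => RingEquiv.ext fun c => by
    rcases eq_or_ne c 0 with rfl | hc0
    · simp
    · have := hrel i j c hc0
      rwa [h, _root_.zpow_neg_one, _root_.zpow_neg_one, inv_inj] at this
  have hreach : ∀ m, ∀ j ∈ reachL D m, σ j = σ ⟨0, (good_of_mem hD).rank_pos⟩ := by
    intro m
    induction m with
    | zero =>
      intro j hj
      simp only [reachL, List.mem_filter, decide_eq_true_eq] at hj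
      exact congrArg σ (Fin.ext hj.2)
    | succ m ih =>
      intro j hj
      simp only [reachL, List.mem_filter, Bool.or_eq_true, List.contains_iff_mem, List.any_eq_true,
        decide_eq_true_eq] at hj
      rcases hj.2 with h | ⟨i, hi, h | h⟩
      · exact ih j h
      · rw [hstep i j h]; exact ih i hi
      · rw [← hstep j i h]; exact ih i hi
  intro j
  simp only [connB, List.all_eq_true, List.contains_iff_mem] at hc
  exact hreach _ j (hc j (List.mem_finRange _))

/-- a normalised automorphism is a graph, then a field, then a diagonal one -/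
theorem exists_std [Fintype F] (hc : connB D = true) {φ : MulAut ↥(D.group F)} (hφ : Normalised φ)
    {π : Equiv.Perm (Fin D.rank)} {σ : Fin D.rank → (F ≃+* F)} {a : Fin D.rank → Fˣ}
    (hf : Form φ π σ a) {γ : MulAut ↥(D.group F)} {τ : Fin D.rank → (F ≃+* F)} (hγ : Normalised γ)
    (hγf : Form γ π τ 1) :
    ∃ (s : F ≃+* F) (b : Fin D.rank → Fˣ) (ψ δ : MulAut ↥(D.group F)),
      Form ψ 1 (fun _ => s) 1 ∧ Normalised ψ ∧ Form δ 1 (fun _ => RingEquiv.refl F) b ∧
        Normalised δ ∧ φ = γ.trans (ψ.trans δ) := by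
  have hG := good_of_mem hD
  let φ' : MulAut ↥(D.group F) := (MulEquiv.symm γ).trans φ
  have hφ' : Normalised φ' := Normalised.trans hD hγ.symm hφ
  obtain ⟨π', σ', a', hf', -, hrel'⟩ := exists_form hD hφ'
  have hcomp : γ.trans φ' = φ := MulEquiv.ext fun x => congrArg φ (γ.symm_apply_apply x)
  have hπ : π.trans π' = π := ((Form.inj hD (hcomp ▸ Form.trans hD hγf hf') hf)).1
  have hπ' : π' = 1 := Equiv.ext fun i => by
    have := congrArg (fun e : Equiv.Perm (Fin D.rank) => e (π.symm i)) hπ
    simpa using this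
  subst hπ'
  have hs := const_of_id hD hc hrel'
  obtain ⟨ψ, -, hψN, hψ⟩ := exists_field hD (σ' ⟨0, hG.rank_pos⟩)
  obtain ⟨δ, -, hδN, hδ⟩ := exists_diag hD a'
  refine ⟨_, a', ψ, δ, hψ, hψN, hδ, hδN, ?_⟩
  rw [← hcomp]
  congr 1
  refine Form.unique hD hf' ?_
  have h := Form.trans hD hψ hδ
  convert h using 1
  · exact Equiv.ext fun i => rfl
  · funext i
    rw [hs i]; exact RingEquiv.ext fun t => rfl
  · funext i
    simp

/-- the order of the outer automorphism group -/
theorem card_out [Fintype F] (p f : ℕ) [Fact p.Prime] (hF : Fintype.card F = p ^ f)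
    (hc : connB D = true) {n : ℕ} (Γ : Fin n → MulAut ↥(D.group F))
    (P : Fin n → Equiv.Perm (Fin D.rank)) (τ : Fin n → Fin D.rank → (F ≃+* F))
    (hP : Function.Injective P) (hΓN : ∀ k, Normalised (Γ k)) (hΓ : ∀ k, Form (Γ k) (P k) (τ k) 1)
    (hcover : ∀ (π : Equiv.Perm (Fin D.rank)) (σ : Fin D.rank → (F ≃+* F)),
      (∀ i j, i ≠ j → cA D i j = 0 → cA D (π i) (π j) = 0) →
      (∀ i j (c : F), c ≠ 0 → σ j c ^ cA D i j = σ i c ^ cA D (π i) (π j)) → ∃ k, π = P k) :
    Nat.card (Cfsg.Out ↥(D.group F)) =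
      n * Nat.card (F ≃+* F) * Nat.card (mpow (M := Fˣ) (cartanT D)).ker := by
  classical
  have hG := good_of_mem hD
  set M := mpow (M := Fˣ) (cartanT D)
  choose ψ _ hψN hψ using fun s : F ≃+* F => exists_field hD s
  choose δ _ hδN hδ using fun a : Fin D.rank → Fˣ => exists_diag hD a
  let θ : Fin n → (F ≃+* F) → (Fin D.rank → Fˣ) → MulAut ↥(D.group F) := fun k s a =>
    (Γ k).trans ((ψ s).trans (δ a))
  have hθ : ∀ k s a, Form (θ k s a) (P k) (fun i => (τ k i).trans s) (fun i => a (P k i)) := by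
    intro k s a
    have h := Form.trans hD (hΓ k) (Form.trans hD (hψ s) (hδ a))
    convert h using 1
    · exact Equiv.ext fun i => rfl
    · funext i; exact RingEquiv.ext fun t => rfl
    · funext i; simp
  have hθN : ∀ k s a, Normalised (θ k s a) := fun k s a =>
    Normalised.trans hD (hΓN k) (Normalised.trans hD (hψN s) (hδN a))
  -- composing with an inner automorphism of the torus
  have hinner : ∀ k s a (g : ↥(D.group F)) (b : Fin D.rank → Fˣ),
      Form (MulAut.conj g) 1 (fun _ => RingEquiv.refl F) b →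
        Form ((θ k s a).trans (MulAut.conj g)) (P k) (fun i => (τ k i).trans s)
          (fun i => (b * a) (P k i)) := by
    intro k s a g b hb
    have h := Form.trans hD (hθ k s a) hb
    convert h using 1
    · exact Equiv.ext fun i => rfl
    · funext i; exact RingEquiv.ext fun t => rfl
    · funext i; simp
  let Ψ : Fin n × (F ≃+* F) × ((Fin D.rank → Fˣ) ⧸ M.range) → Cfsg.Out ↥(D.group F) := fun x =>
    QuotientGroup.mk (θ x.1 x.2.1 x.2.2.out)
  have hout : ∀ (φ φ' : MulAut ↥(D.group F)),
      (QuotientGroup.mk φ : Cfsg.Out ↥(D.group F)) = QuotientGroup.mk φ' ↔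
        ∃ g, φ' = φ.trans (MulAut.conj g) := by
    intro φ φ'
    rw [QuotientGroup.eq]
    constructor
    · rintro ⟨g, hg⟩
      refine ⟨φ g, ?_⟩
      rw [show φ' = φ * MulAut.conj g by rw [hg]; group]
      ext x; simp
    · rintro ⟨g, rfl⟩
      refine ⟨φ.symm g, ?_⟩
      apply MulEquiv.ext
      intro x
      apply φ.injective
      simp [mul_assoc]
  have hsurj : Function.Surjective Ψ := by
    intro y
    obtain ⟨φ, rfl⟩ := QuotientGroup.mk_surjective y
    obtain ⟨g, hU, hV⟩ := exists_normalise hD p f hF φ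
    have hN := normalised_of_map hU hV
    obtain ⟨π, σ, a, hf, hzero, hrel⟩ := exists_form hD hN
    obtain ⟨k, rfl⟩ := hcover π σ hzero hrel
    obtain ⟨s, b, ψ', δ', h1, -, h3, -, e⟩ := exists_std hD hc hN hf (hΓN k) (hΓ k)
    have e' : φ.trans (MulAut.conj g) = θ k s b := by
      rw [e, Form.unique hD h1 (hψ s), Form.unique hD h3 (hδ b)]
    refine ⟨(k, s, QuotientGroup.mk b), (hout _ _).2 ?_⟩
    obtain ⟨m, hm⟩ := QuotientGroup.mk_out_eq_mul M.range b
    obtain ⟨c, hc'⟩ := m.2
    obtain ⟨h, hh⟩ := exists_inner_of_mpow hD c⁻¹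
    refine ⟨g⁻¹ * h, ?_⟩
    have e2 : θ k s b = (θ k s (QuotientGroup.mk b : (Fin D.rank → Fˣ) ⧸ M.range).out).trans
        (MulAut.conj h) := by
      refine Form.unique hD (hθ k s b) ?_
      convert hinner k s _ h _ hh using 1
      funext i
      show b (P k i) = (M c⁻¹ * (QuotientGroup.mk b : (Fin D.rank → Fˣ) ⧸ M.range).out) (P k i)
      rw [hm, ← hc', map_inv]
      simp [mul_left_comm]
    show φ = (θ k s _).trans (MulAut.conj (g⁻¹ * h))
    rw [e2] at e'
    apply MulEquiv.ext
    intro x
    have h4 := congrArg (fun u : MulAut ↥(D.group F) => g⁻¹ * u x * g) e'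
    simp only [MulEquiv.trans_apply, MulAut.conj_apply] at h4 ⊢
    rw [show g⁻¹ * (g * φ x * g⁻¹) * g = φ x by group] at h4
    rw [h4]; group
  have hinj : Function.Injective Ψ := by
    rintro ⟨k, s, q⟩ ⟨k', s', q'⟩ h
    obtain ⟨g, hg⟩ := (hout _ _).1 h
    have hN : Normalised (MulAut.conj g : MulAut ↥(D.group F)) := by
      have e : MulAut.conj g = (MulEquiv.symm (θ k s q.out)).trans (θ k' s' q'.out) := by
        simp only at hg
        rw [hg]; ext x; simp
      rw [e]
      exact Normalised.trans hD (hθN _ _ _).symm (hθN _ _ _)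
    obtain ⟨c, hc'⟩ := exists_inner_form hD (mem_gH_of_normalised hD hN)
    have h2 := hinner k s q.out g _ hc'
    simp only at hg
    rw [← hg] at h2
    obtain ⟨hk, hs, ha⟩ := Form.inj hD h2 (hθ k' s' q'.out)
    obtain rfl := hP hk
    have hs' : s = s' := RingEquiv.ext fun t => by
      obtain ⟨u, rfl⟩ := (τ k ⟨0, hG.rank_pos⟩).surjective t
      exact RingEquiv.congr_fun (congrFun hs ⟨0, hG.rank_pos⟩) u
    have hq : q'.out = M c * q.out := funext fun j => by
      have := congrFun ha ((P k).symm j)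
      simpa using this.symm
    subst hs'
    have : q = q' := by
      rw [← QuotientGroup.out_eq' q, ← QuotientGroup.out_eq' q', hq, QuotientGroup.mk_mul,
        (QuotientGroup.eq_one_iff (N := M.range) (M c)).2 ⟨c, rfl⟩, one_mul]
    rw [this]
  rw [← Nat.card_congr (Equiv.ofBijective Ψ ⟨hinj, hsurj⟩), Nat.card_prod, Nat.card_prod,
    Nat.card_fin, mul_assoc]
  congr 2
  have h1 := M.range.index_mul_card
  have h2 := M.ker.index_mul_card
  rw [Subgroup.index_ker] at h2
  rw [← h2] at h1
  refine Nat.eq_of_mul_eq_mul_right (Nat.card_pos (α := M.range)) ?_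
  rw [← Subgroup.index_eq_card, h1, mul_comm]

end Cfsg.Agent.ChevAut
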