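/-
The possible permutations of the fundamental roots, graph automorphisms in normal form.
-/
import Cfsg.Agent.ChevAut.Count
import Cfsg.Agent.Lib.ChevCore.TorusCard

set_option autoImplicit false

namespace Cfsg.Agent.ChevAut

open Cfsg.Lie Cfsg.Agent.ChevCore

/-- the Cartan integers as a function of natural numbers -/
def cN (D : ChevalleyDatum) (i j : ℕ) : ℤ := D.cartan i (D.simple j)

/-- a table of the vanishing Cartan integers, row by row -/
def zT (Z : List ℕ) (i j : ℕ) : Bool := Nat.testBit (Z.getD i 0) j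

/-- correctness of a table -/
def zB (D : ChevalleyDatum) (Z : List ℕ) : Bool :=
  (List.range D.rank).all fun i => (List.range D.rank).all fun j =>
    decide (zT Z i j = decide (cN D i j = 0))

/-- lists of images of the first `m` of `r` fundamental roots preserving the vanishing of Cartan
integers -/
def ext (r : ℕ) (Z : List ℕ) : ℕ → List (List ℕ)
  | 0 => [[]]
  | m + 1 => (ext r Z m).flatMap fun L =>
      ((List.range r).filter fun v => !L.contains v && (List.range m).all fun i =>
        !(zT Z i m) || zT Z (L.getD i 0) v).map fun v => L ++ [v]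

variable {D : ChevalleyDatum} {F : Type*} [Field F]

theorem mem_ext {Z : List ℕ} (hZ : zB D Z = true) (π : Equiv.Perm (Fin D.rank))
    (h : ∀ i j, i ≠ j → cA D i j = 0 → cA D (π i) (π j) = 0) :
    ∀ m, ∀ hm : m ≤ D.rank,
      (List.ofFn fun i : Fin m => (π ⟨i.val, lt_of_lt_of_le i.isLt hm⟩).val) ∈ ext D.rank Z m := by
  simp only [zB, List.all_eq_true, List.mem_range, decide_eq_true_eq] at hZ
  intro m
  induction m with
  | zero => intro hm; simp [ext]
  | succ m ih =>
    intro hm
    have hm' : m ≤ D.rank := by omega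
    set v : ℕ := (π ⟨m, hm⟩).val with hv
    rw [List.ofFn_succ_last, ext, List.mem_flatMap]
    refine ⟨_, ih hm', List.mem_map.2 ⟨v, List.mem_filter.2 ⟨List.mem_range.2 (π ⟨m, hm⟩).isLt, ?_⟩, ?_⟩⟩
    · simp only [Bool.and_eq_true, Bool.not_eq_true', List.all_eq_true, List.mem_range,
        Bool.or_eq_true]
      refine ⟨?_, fun i hi => ?_⟩
      · rw [← Bool.not_eq_true, List.contains_iff_mem, List.mem_ofFn]
        rintro ⟨i, hi⟩
        have := congrArg Fin.val (π.injective (Fin.ext hi))
        simp at this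
        exact absurd this (by omega)
      · rw [List.getD_eq_getElem _ _ (by simpa using hi), List.getElem_ofFn,
          hZ i (by omega) m (by omega), hZ _ (π _).isLt v (π _).isLt]
        by_cases h0 : cN D i m = 0
        · exact Or.inr (decide_eq_true
            (h ⟨i, by omega⟩ ⟨m, hm⟩ (fun e => by simp [Fin.ext_iff] at e; omega) h0))
        · exact Or.inl (decide_eq_false h0)
    · rfl

/-- the permutation is one of the listed ones -/
theorem perm_cases {Z : List ℕ} {L : List (List ℕ)} (hZ : zB D Z = true)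
    (hext : ext D.rank Z D.rank = L) (π : Equiv.Perm (Fin D.rank))
    (h : ∀ i j, i ≠ j → cA D i j = 0 → cA D (π i) (π j) = 0) :
    (List.ofFn fun i => (π i).val) ∈ L :=
  hext ▸ mem_ext hZ π h D.rank le_rfl

/-- certificate of a graph automorphism given on all roots -/
def graphB (D : ChevalleyDatum) (ρ : ℕ → ℕ) (e : ℕ → ℕ) (π : List ℕ) : Bool :=
  ((List.range D.nroots).all fun r => decide (ρ r < D.nroots) &&
    decide (D.IsPosRoot r ↔ D.IsPosRoot (ρ r))) &&
  (List.range D.rank).all fun i =>
    decide (ρ (D.simple i) = D.simple (π.getD i 0)) &&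
    decide (ρ (D.neg (D.simple i)) = D.neg (D.simple (π.getD i 0))) &&
    decide (e (D.neg (D.simple i)) = e (D.simple i))

variable (hD : Seven D)

include hD

theorem graph_form [Fintype F] {φ : MulAut ↥(D.group F)} {ρ e : ℕ → ℕ} {L : List ℕ}
    {s : ℕ → F → F} (h : RootMap φ ρ s) (hB : graphB D ρ e L = true)
    (π : Equiv.Perm (Fin D.rank)) (hπ : ∀ i, (π i).val = L.getD i.val 0)
    (τ : Fin D.rank → (F ≃+* F)) (hτ : ∀ (i : Fin D.rank) t, s (D.simple i) t = τ i t)
    (hτ' : ∀ (i : Fin D.rank) t, s (D.neg (D.simple i)) t = τ i t) : Normalised φ ∧ Form φ π τ 1 := by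
  have hG := good_of_mem hD
  simp only [graphB, Bool.and_eq_true, List.all_eq_true, List.mem_range, decide_eq_true_eq] at hB
  obtain ⟨hr, hs⟩ := hB
  refine ⟨normalised_of_rootMap hD h (fun r h => (hr r h).1) (fun r h1 hp => ?_) (fun r h1 hn => ?_),
    fun i g t => ⟨fun hg => ?_, fun hg => ?_⟩⟩
  · have := (hr r h1).2.1 ((hG.isPosRoot_iff h1).2 hp)
    exact (hG.isPosRoot_iff (hr r h1).1).1 this
  · have hne := hG.ht_ne_zero (hr r h1).1
    by_contra hcon
    have := (hr r h1).2.2 ((hG.isPosRoot_iff (hr r h1).1).2 (by omega))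
    rw [hG.isPosRoot_iff h1] at this
    omega
  · rw [h _ (hG.simple_lt i.isLt) g t hg, (hs i i.isLt).1.1, hτ, hπ]; simp
  · rw [h _ (hG.neg_lt (hG.simple_lt i.isLt)) g t hg, (hs i i.isLt).1.2, hτ', hπ]; simp

theorem trivial_form [Fintype F] : Normalised (1 : MulAut ↥(D.group F)) ∧
    Form (1 : MulAut ↥(D.group F)) 1 (fun _ => RingEquiv.refl F) 1 :=
  ⟨⟨fun x => Iff.rfl, fun x => Iff.rfl⟩, fun i g t => ⟨fun hg => by simpa using hg, fun hg => by simpa using hg⟩⟩

/-- the kernel of the Cartan matrix on the torus -/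
theorem ker_card [Fintype F] {d : ℕ}
    (h : d * Nat.card (D.diagonalSubgroup F) = (Fintype.card F - 1) ^ D.rank) :
    Nat.card (mpow (M := Fˣ) (cartanT D)).ker = d := by
  classical
  have hG := good_of_mem hD
  have hc : Nat.card Fˣ = Fintype.card F - 1 := by rw [Nat.card_eq_fintype_card, Fintype.card_units]
  have h1 := Subgroup.card_mul_index (tau D F).ker
  rw [Subgroup.index_ker, ← hG.diagonalSubgroup_eq_range, hG.ker_tau,
    Nat.card_pi, Finset.prod_const, hc, Finset.card_univ, Fintype.card_fin, ← h] at h1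
  exact Nat.eq_of_mul_eq_mul_right Nat.card_pos h1

/-- all `σ_i` of a normal form satisfy `σ_j(c) = σ_i(c)^m` for a bond `-1` sent to `-m` -/
theorem pow_additive {i j : Fin D.rank} {π : Equiv.Perm (Fin D.rank)} {σ : Fin D.rank → (F ≃+* F)}
    (hrel : ∀ i j (c : F), c ≠ 0 → σ j c ^ cA D i j = σ i c ^ cA D (π i) (π j)) {m : ℕ}
    (hA : cA D i j = -1) (hA' : cA D (π i) (π j) = -(m : ℤ)) (hm : m ≠ 0) (x y : F) :
    (x + y) ^ m = x ^ m + y ^ m := by
  have key : ∀ c : F, σ j c = σ i c ^ m := fun c => by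
    rcases eq_or_ne c 0 with rfl | hc
    · simp [hm]
    · have := hrel i j c hc
      rwa [hA, hA', _root_.zpow_neg_one, _root_.zpow_neg, zpow_natCast, inv_inj] at this
  obtain ⟨a, rfl⟩ := (σ i).surjective x
  obtain ⟨b, rfl⟩ := (σ i).surjective y
  rw [← map_add, ← key, ← key, ← key, map_add]

end Cfsg.Agent.ChevAut
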