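/-
The outer automorphism groups of the five exceptional types.
-/
import Cfsg.Agent.ChevAut.Symm
import Cfsg.Agent.ChevIsogeny.AutoTypes
import Cfsg.Agent.ChevGroup.Graph.Cert
import Cfsg.Agent.CG26.FieldAutCard
import Mathlib.FieldTheory.Perfect

set_option autoImplicit false

namespace Cfsg.Agent.ChevAut

open Cfsg.Lie Cfsg.Agent.ChevCore Cfsg.Agent.ChevGroup

variable {F : Type*} [Field F] [Fintype F] {D : ChevalleyDatum}

theorem one_of_list (π : Equiv.Perm (Fin D.rank))
    (h : (List.ofFn fun i => (π i).val) = List.range D.rank) : π = 1 := by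
  refine Equiv.ext fun i => Fin.ext ?_
  have := congrArg (fun L : List ℕ => L.getD i.val 0) h
  simpa [List.getD_eq_getElem?_getD] using this

theorem eq_of_list {π π' : Equiv.Perm (Fin D.rank)}
    (h : (List.ofFn fun i => (π i).val) = List.ofFn fun i => (π' i).val) : π = π' :=
  Equiv.ext fun i => Fin.ext (congrFun (List.ofFn_inj.1 h) i)

/-- only the trivial symmetry -/
theorem card_out_rigid (hD : Seven D) (p f : ℕ) [Fact p.Prime] (hF : Fintype.card F = p ^ f)
    (hc : connB D = true)
    (hcov : ∀ (π : Equiv.Perm (Fin D.rank)) (σ : Fin D.rank → (F ≃+* F)),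
      (∀ i j, i ≠ j → cA D i j = 0 → cA D (π i) (π j) = 0) →
      (∀ i j (c : F), c ≠ 0 → σ j c ^ cA D i j = σ i c ^ cA D (π i) (π j)) → π = 1)
    {d : ℕ} (h : d * Nat.card (D.diagonalSubgroup F) = (Fintype.card F - 1) ^ D.rank) :
    Nat.card (Cfsg.Out ↥(D.group F)) = f * d := by
  obtain ⟨h1, h2⟩ := trivial_form (F := F) hD
  rw [card_out hD p f hF hc (n := 1) (fun _ => 1) (fun _ => 1) (fun _ _ => RingEquiv.refl F)
    (fun a b _ => Subsingleton.elim a b) (fun _ => h1) (fun _ => h2)
    (fun π σ hz hrel => ⟨0, hcov π σ hz hrel⟩), CG26.card_fieldAut p f hF, ker_card hD h, one_mul]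

/-- the trivial symmetry and one more -/
theorem card_out_two (hD : Seven D) (p f : ℕ) [Fact p.Prime] (hF : Fintype.card F = p ^ f)
    (hc : connB D = true) (π₁ : Equiv.Perm (Fin D.rank)) (hne : π₁ ≠ 1)
    (hg : ∃ (γ : MulAut ↥(D.group F)) (τ : Fin D.rank → (F ≃+* F)),
      Normalised γ ∧ Form γ π₁ τ 1)
    (hcov : ∀ π : Equiv.Perm (Fin D.rank),
      (∀ i j, i ≠ j → cA D i j = 0 → cA D (π i) (π j) = 0) → π = 1 ∨ π = π₁)
    {d : ℕ} (h : d * Nat.card (D.diagonalSubgroup F) = (Fintype.card F - 1) ^ D.rank) :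
    Nat.card (Cfsg.Out ↥(D.group F)) = 2 * f * d := by
  obtain ⟨h1, h2⟩ := trivial_form (F := F) hD
  obtain ⟨γ, τ, g1, g2⟩ := hg
  rw [card_out hD p f hF hc (n := 2) ![1, γ] ![1, π₁] ![fun _ => RingEquiv.refl F, τ]
    ?_ ?_ ?_ ?_, CG26.card_fieldAut p f hF, ker_card hD h]
  · intro a b e
    fin_cases a <;> fin_cases b <;> first | rfl | exact absurd e (by simpa using hne) |
      exact absurd e (by simpa using hne.symm)
  · intro k; fin_cases k <;> simpa
  · intro k; fin_cases k <;> simpa
  · intro π σ hz _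
    rcases hcov π hz with rfl | rfl
    exacts [⟨0, rfl⟩, ⟨1, rfl⟩]

/-- graph automorphisms with exponents -/
theorem exists_graph_exp (hD : Seven D) (p : ℕ) [Fact p.Prime] [CharP F p] {ρ e : ℕ → ℕ} {L : List ℕ}
    (hB : graphB D ρ e L = true) (π : Equiv.Perm (Fin D.rank))
    (hπ : ∀ i, (π i).val = L.getD i.val 0) (he : ∀ r < D.nroots, e r = 1 ∨ e r = p)
    (α : ↥(D.group F) ≃* ↥(D.group F))
    (hα : ∀ (r : ℕ) (_ : r < D.nroots) (g : ↥(D.group F)) (t : F),
      ((g : GL D.Idx F) : Matrix D.Idx D.Idx F) = D.x F r t →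
      ((α g : GL D.Idx F) : Matrix D.Idx D.Idx F) = D.x F (ρ r) (t ^ e r)) :
    ∃ (γ : MulAut ↥(D.group F)) (τ : Fin D.rank → (F ≃+* F)), Normalised γ ∧ Form γ π τ 1 := by
  have hG := good_of_mem hD
  haveI : PerfectRing F p := PerfectRing.ofSurjective F p
    (Finite.surjective_of_injective (frobenius_inj F p))
  let τ : Fin D.rank → (F ≃+* F) := fun i =>
    if e (D.simple i) = 1 then RingEquiv.refl F else frobeniusEquiv F p
  have hmap : RootMap (α : MulAut ↥(D.group F)) ρ (fun r t => t ^ e r) := by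
    intro r hr g t hg
    refine Units.ext ?_
    rw [hG.val_xg]
    exact hα r hr g t (by rw [hg, hG.val_xg])
  have hτ : ∀ (i : Fin D.rank) t, t ^ e (D.simple i) = τ i t := fun i t => by
    rcases he _ (hG.simple_lt i.isLt) with h | h
    · simp [τ, h]
    · simp [τ, h, (Fact.out : p.Prime).ne_one, frobeniusEquiv_apply, frobenius_def]
  refine ⟨α, τ, graph_form hD hmap hB π hπ τ hτ fun i t => ?_⟩
  have hB' := hB
  simp only [graphB, Bool.and_eq_true, List.all_eq_true, List.mem_range, decide_eq_true_eq] at hB'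
  show t ^ e (D.neg (D.simple i)) = _
  rw [(hB'.2 i i.isLt).2, hτ]

/-- the swap of G2 -/
def swapG2 : Equiv.Perm (Fin chevG2.rank) :=
  ⟨fun i => ⟨[1, 0].getD i.val 0, by revert i; decide +kernel⟩,
   fun i => ⟨[1, 0].getD i.val 0, by revert i; decide +kernel⟩,
   by decide +kernel, by decide +kernel⟩

/-- the reversal of F4 -/
def revF4 : Equiv.Perm (Fin chevF4.rank) :=
  ⟨fun i => ⟨[3, 2, 1, 0].getD i.val 0, by revert i; decide +kernel⟩,
   fun i => ⟨[3, 2, 1, 0].getD i.val 0, by revert i; decide +kernel⟩,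
   by decide +kernel, by decide +kernel⟩

/-- the symmetry of E6 -/
def revE6 : Equiv.Perm (Fin chevE6.rank) :=
  ⟨fun i => ⟨[5, 1, 4, 3, 2, 0].getD i.val 0, by revert i; decide +kernel⟩,
   fun i => ⟨[5, 1, 4, 3, 2, 0].getD i.val 0, by revert i; decide +kernel⟩,
   by decide +kernel, by decide +kernel⟩

theorem zG2 : zB chevG2 [0, 0] = true := by decide +kernel
theorem extG2 : ext chevG2.rank [0, 0] chevG2.rank = [[0, 1], [1, 0]] := by decide +kernel
theorem zF4 : zB chevF4 [12, 8, 1, 3] = true := by decide +kernel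
theorem extF4 : ext chevF4.rank [12, 8, 1, 3] chevF4.rank = [[0, 1, 2, 3], [3, 2, 1, 0]] := by decide +kernel
theorem zE6 : zB chevE6 [58, 53, 50, 33, 7, 15] = true := by decide +kernel
theorem extE6 : ext chevE6.rank [58, 53, 50, 33, 7, 15] chevE6.rank = [[0, 1, 2, 3, 4, 5], [5, 1, 4, 3, 2, 0]] := by decide +kernel
theorem zE7 : zB chevE7 [122, 117, 114, 97, 71, 15, 31] = true := by decide +kernel
theorem extE7 : ext chevE7.rank [122, 117, 114, 97, 71, 15, 31] chevE7.rank = [List.range 7] := by decide +kernel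
theorem zE8 : zB chevE8 [250, 245, 242, 225, 199, 143, 31, 63] = true := by decide +kernel
theorem extE8 : ext chevE8.rank [250, 245, 242, 225, 199, 143, 31, 63] chevE8.rank = [List.range 8] := by decide +kernel

theorem connG2 : connB chevG2 = true := by decide +kernel
theorem connF4 : connB chevF4 = true := by decide +kernel
theorem connE6 : connB chevE6 = true := by decide +kernel
theorem connE7 : connB chevE7 = true := by decide +kernel
theorem connE8 : connB chevE8 = true := by decide +kernel

theorem covG2 (π : Equiv.Perm (Fin chevG2.rank))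
    (h : ∀ i j, i ≠ j → cA chevG2 i j = 0 → cA chevG2 (π i) (π j) = 0) : π = 1 ∨ π = swapG2 := by
  have := perm_cases zG2 extG2 π h
  simp only [List.mem_cons, List.not_mem_nil, or_false] at this
  exact this.imp (fun e => one_of_list π e) fun e => eq_of_list (e.trans (by decide +kernel))

theorem covF4 (π : Equiv.Perm (Fin chevF4.rank))
    (h : ∀ i j, i ≠ j → cA chevF4 i j = 0 → cA chevF4 (π i) (π j) = 0) : π = 1 ∨ π = revF4 := by
  have := perm_cases zF4 extF4 π h
  simp only [List.mem_cons, List.not_mem_nil, or_false] at this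
  exact this.imp (fun e => one_of_list π e) fun e => eq_of_list (e.trans (by decide +kernel))

theorem covE6 (π : Equiv.Perm (Fin chevE6.rank))
    (h : ∀ i j, i ≠ j → cA chevE6 i j = 0 → cA chevE6 (π i) (π j) = 0) : π = 1 ∨ π = revE6 := by
  have := perm_cases zE6 extE6 π h
  simp only [List.mem_cons, List.not_mem_nil, or_false] at this
  exact this.imp (fun e => one_of_list π e) fun e => eq_of_list (e.trans (by decide +kernel))

theorem card_G2 (p f : ℕ) [Fact p.Prime] [CharP F p] (hF : Fintype.card F = p ^ f) (hq : 3 ≤ p ^ f) :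
    Nat.card (Cfsg.Out ↥(chevG2.group F)) = (if p = 3 then 2 * f else f) := by
  have hD : Seven chevG2 := by simp
  have hd := card_diagonalG2 (F := F)
  split_ifs with hp
  · subst hp
    obtain ⟨α, hα⟩ := ChevIsogeny.auto_G2 (F := F)
      fun x => Finite.surjective_of_injective (frobenius_inj F 3) x
    rw [card_out_two hD 3 f hF connG2 swapG2 (fun e => by
        have := congrArg (fun s : Equiv.Perm (Fin chevG2.rank) => (s ⟨0, by decide +kernel⟩).val) e
        revert this; decide +kernel)
      (exists_graph_exp hD 3 (ρ := ChevIsogeny.G2.iso.ρf) (e := ChevIsogeny.G2.iso.lf) (L := [1, 0])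
        (by decide +kernel) swapG2 (fun i => rfl) (by decide +kernel) α hα)
      covG2 hd, mul_one]
  · rw [card_out_rigid hD p f hF connG2 (fun π σ hz hrel => (covG2 π hz).resolve_right ?_) hd, mul_one]
    rintro rfl
    obtain ⟨i, j, hA, hA'⟩ : ∃ i j, cA chevG2 i j = -1 ∧ cA chevG2 (swapG2 i) (swapG2 j) = -((3 : ℕ) : ℤ) := by
      decide +kernel
    have hadd := pow_additive hD hrel hA hA' (by norm_num)
    have h6 : ((6 : ℕ) : F) = 0 := by
      have := hadd 1 1
      push_cast
      linear_combination this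
    have hdvd := (CharP.cast_eq_zero_iff F p 6).1 h6
    have hp2 : p = 2 := by
      have hle := Nat.le_of_dvd (by norm_num) hdvd
      have hpp : p.Prime := Fact.out
      interval_cases p <;> simp_all (config := { decide := true })
    subst hp2
    have h2 : (2 : F) = 0 := CharTwo.two_eq_zero
    have hall : ∀ x : F, x = 0 ∨ x = 1 := fun x => by
      have := hadd x 1
      have hx : x * (x + 1) = 0 := by
        linear_combination this - (x ^ 2 + x) * h2
      rcases mul_eq_zero.1 hx with h | h
      · exact Or.inl h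
      · exact Or.inr (by linear_combination h - h2)
    classical
    have hsub : (Finset.univ : Finset F) ⊆ {0, 1} := fun x _ => by
      rcases hall x with h | h <;> simp [h]
    have := Finset.card_le_card hsub
    rw [Finset.card_univ, hF] at this
    have h3 := le_trans this Finset.card_le_two
    omega

theorem card_F4 (p f : ℕ) [Fact p.Prime] [CharP F p] (hF : Fintype.card F = p ^ f) :
    Nat.card (Cfsg.Out ↥(chevF4.group F)) = Nat.gcd 2 p * f := by
  have hD : Seven chevF4 := by simp
  have hd := card_diagonalF4 (F := F)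
  rcases eq_or_ne p 2 with rfl | hp
  · obtain ⟨α, hα⟩ := ChevIsogeny.auto_F4 (F := F)
      fun x => Finite.surjective_of_injective (frobenius_inj F 2) x
    rw [card_out_two hD 2 f hF connF4 revF4 (fun e => by
        have := congrArg (fun s : Equiv.Perm (Fin chevF4.rank) => (s ⟨0, by decide +kernel⟩).val) e
        revert this; decide +kernel)
      (exists_graph_exp hD 2 (ρ := ChevIsogeny.F4.iso.ρf) (e := ChevIsogeny.F4.iso.lf)
        (L := [3, 2, 1, 0])
        (by decide +kernel) revF4 (fun i => rfl) (by decide +kernel) α hα)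
      covF4 hd, mul_one]
    norm_num
  · rw [card_out_rigid hD p f hF connF4 (fun π σ hz hrel => (covF4 π hz).resolve_right ?_) hd, mul_one]
    · rw [((Nat.coprime_primes Nat.prime_two Fact.out).2 (Ne.symm hp)).gcd_eq_one, one_mul]
    rintro rfl
    obtain ⟨i, j, hA, hA'⟩ : ∃ i j, cA chevF4 i j = -1 ∧ cA chevF4 (revF4 i) (revF4 j) = -((2 : ℕ) : ℤ) := by
      decide +kernel
    have hadd := pow_additive hD hrel hA hA' (by norm_num)
    have h2 : ((2 : ℕ) : F) = 0 := by
      have := hadd 1 1
      push_cast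
      linear_combination this
    exact hp ((Nat.prime_dvd_prime_iff_eq Fact.out Nat.prime_two).1 ((CharP.cast_eq_zero_iff F p 2).1 h2))

theorem card_E6 (p f : ℕ) [Fact p.Prime] (hF : Fintype.card F = p ^ f) :
    Nat.card (Cfsg.Out ↥(chevE6.group F)) = 2 * Nat.gcd 3 (p ^ f - 1) * f := by
  have hD : Seven chevE6 := by simp
  have hd := card_diagonalE6 (F := F)
  rw [hF] at hd
  have hG := good_of_mem hD
  obtain ⟨α, hα⟩ := ChevGroup.Graph.exists_aut hG ChevGroup.Graph.e6_ok F
  have hmap : RootMap (α : MulAut ↥(chevE6.group F)) ChevGroup.Graph.e6.ρf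
      (fun r t => (ChevGroup.Graph.e6.ef r : F) * t) := by
    intro r hr g t hg
    refine Units.ext ?_
    rw [hG.val_xg]
    exact hα g r t hr (by rw [hg, hG.val_xg])
  have hsgn : ∀ i < chevE6.rank, ChevGroup.Graph.e6.ef (chevE6.simple i) = 1 ∧
      ChevGroup.Graph.e6.ef (chevE6.neg (chevE6.simple i)) = 1 := by decide +kernel
  rw [card_out_two hD p f hF connE6 revE6 (fun e => by
      have := congrArg (fun s : Equiv.Perm (Fin chevE6.rank) => (s ⟨0, by decide +kernel⟩).val) e
      revert this; decide +kernel)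
    ⟨α, fun _ => RingEquiv.refl F, graph_form hD hmap (e := fun _ => 1) (L := [5, 1, 4, 3, 2, 0])
      (by decide +kernel) revE6 (fun i => rfl) _
      (fun i t => by show ((ChevGroup.Graph.e6.ef _ : ℤ) : F) * t = _; rw [(hsgn i i.isLt).1]; simp)
      (fun i t => by show ((ChevGroup.Graph.e6.ef _ : ℤ) : F) * t = _; rw [(hsgn i i.isLt).2]; simp)⟩
    covE6 (by rw [hF]; exact hd)]
  ring

theorem card_E7 (p f : ℕ) [Fact p.Prime] (hF : Fintype.card F = p ^ f) :
    Nat.card (Cfsg.Out ↥(chevE7.group F)) = Nat.gcd 2 (p ^ f - 1) * f := by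
  have hd := card_diagonalE7 (F := F)
  rw [card_out_rigid (D := chevE7) (by simp) p f hF connE7 (fun π _ hz _ => one_of_list π (by
    have := perm_cases zE7 extE7 π hz
    rw [List.mem_singleton] at this
    exact this.trans (by decide +kernel))) hd, hF]
  ring

theorem card_E8 (p f : ℕ) [Fact p.Prime] (hF : Fintype.card F = p ^ f) :
    Nat.card (Cfsg.Out ↥(chevE8.group F)) = f := by
  rw [card_out_rigid (D := chevE8) (by simp) p f hF connE8 (fun π _ hz _ => one_of_list π (by
    have := perm_cases zE8 extE8 π hz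
    rw [List.mem_singleton] at this
    exact this.trans (by decide +kernel))) card_diagonalE8, mul_one]

end Cfsg.Agent.ChevAut
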